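import Groth.Agent.FlatLocus.Open
import Mathlib.RingTheory.TensorProduct.MvPolynomial
import Mathlib.RingTheory.Adjoin.FG
import Mathlib.Algebra.Module.FinitePresentation
import Mathlib.RingTheory.MvPolynomial.Tower
import Mathlib.RingTheory.FinitePresentation

/-!
# Noetherian models of finitely presented modules over polynomial rings
-/

set_option autoImplicit false
set_option backward.isDefEq.respectTransparency false

universe u

open scoped TensorProduct
open LinearMap Function

namespace Groth.Agent.FlatLocus

attribute [local instance] MvPolynomial.algebraMvPolynomial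

/-- The module defined by a lifted matrix is a model. -/
theorem exists_module_model_aux {R B : Type u} [CommRing R] [CommRing B] [Algebra R B] {n m k : ℕ}
    {M : Type u} [AddCommGroup M] [Module (MvPolynomial (Fin n) B) M]
    (π : (Fin m → MvPolynomial (Fin n) B) →ₗ[MvPolynomial (Fin n) B] M)
    (g : (Fin k → MvPolynomial (Fin n) B) →ₗ[MvPolynomial (Fin n) B] (Fin m → MvPolynomial (Fin n) B))
    (hπ : Surjective π) (hex : Exact g π) (a₀ : Fin k → Fin m → MvPolynomial (Fin n) R)
    (ha₀ : ∀ j i, MvPolynomial.map (algebraMap R B) (a₀ j i) = g (Pi.single j 1) i) :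
    ∃ (M₀ : Type u) (_ : AddCommGroup M₀) (_ : Module (MvPolynomial (Fin n) R) M₀),
      Module.Finite (MvPolynomial (Fin n) R) M₀ ∧
      Nonempty (MvPolynomial (Fin n) B ⊗[MvPolynomial (Fin n) R] M₀ ≃ₗ[MvPolynomial (Fin n) B] M) := by
  let K₀ : Submodule (MvPolynomial (Fin n) R) (Fin m → MvPolynomial (Fin n) R) :=
    Submodule.span _ (Set.range a₀)
  let ι : (Fin m → MvPolynomial (Fin n) R) →ₗ[MvPolynomial (Fin n) R] (Fin m → MvPolynomial (Fin n) B) :=
    LinearMap.pi fun i => Algebra.linearMap _ _ ∘ₗ LinearMap.proj i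
  have hι : ∀ j, ι (a₀ j) = g (Pi.single j 1) := fun j => funext fun i => ha₀ j i
  let : Module (MvPolynomial (Fin n) R) M := Module.compHom M (algebraMap _ (MvPolynomial (Fin n) B))
  have : IsScalarTower (MvPolynomial (Fin n) R) (MvPolynomial (Fin n) B) M :=
    IsScalarTower.of_compHom _ _ M
  let f : ((Fin m → MvPolynomial (Fin n) R) ⧸ K₀) →ₗ[MvPolynomial (Fin n) R] M :=
    K₀.liftQ (π.restrictScalars _ ∘ₗ ι) (Submodule.span_le.2 (by
      rintro _ ⟨j, rfl⟩
      simp only [SetLike.mem_coe, LinearMap.mem_ker, LinearMap.comp_apply, LinearMap.coe_restrictScalars, hι]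
      exact hex.apply_apply_eq_zero _))
  refine ⟨(Fin m → MvPolynomial (Fin n) R) ⧸ K₀, inferInstance, inferInstance,
    Module.Finite.of_surjective K₀.mkQ K₀.mkQ_surjective, ⟨IsBaseChange.equiv (f := f) ?_⟩⟩
  refine IsBaseChange.of_lift_unique _ fun Q _ _ _ _ h => ?_
  let : AddCommGroup Q := Module.addCommMonoidToAddCommGroup (MvPolynomial (Fin n) B)
  let e : Fin m → Q := fun i => h (Submodule.Quotient.mk (Pi.single i 1))
  let G : (Fin m → MvPolynomial (Fin n) B) →ₗ[MvPolynomial (Fin n) B] Q := Fintype.linearCombination _ e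
  have hG : G.restrictScalars (MvPolynomial (Fin n) R) ∘ₗ ι = h ∘ₗ K₀.mkQ := by
    refine LinearMap.pi_ext' fun i => LinearMap.ext_ring ?_
    have : ι (Pi.single i 1) = Pi.single i 1 := funext fun i' => by
      by_cases hi : i' = i <;> simp [ι, hi]
    simp [LinearMap.coe_single, this, G, e, Fintype.linearCombination_apply_single]
  have hker : LinearMap.ker π ≤ LinearMap.ker G := by
    rw [hex.linearMap_ker_eq]
    rintro _ ⟨x, rfl⟩
    rw [LinearMap.mem_ker, ← LinearMap.comp_apply,
      show G ∘ₗ g = 0 from LinearMap.pi_ext' fun j => LinearMap.ext_ring ?_, LinearMap.zero_apply]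
    simp only [LinearMap.comp_apply, LinearMap.coe_single, LinearMap.zero_apply]
    rw [← hι j, ← LinearMap.restrictScalars_apply (MvPolynomial (Fin n) R) G, ← LinearMap.comp_apply, hG,
      LinearMap.comp_apply, Submodule.mkQ_apply,
      (Submodule.Quotient.mk_eq_zero K₀).2 (Submodule.subset_span ⟨j, rfl⟩), map_zero]
  let G' : M →ₗ[MvPolynomial (Fin n) B] Q :=
    (LinearMap.ker π).liftQ G hker ∘ₗ (LinearMap.quotKerEquivOfSurjective π hπ).symm.toLinearMap
  have hG' : ∀ x, G' (π x) = G x := fun x => by
    have : (LinearMap.quotKerEquivOfSurjective π hπ).symm (π x) = Submodule.Quotient.mk x := by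
      rw [LinearEquiv.symm_apply_eq]
      rfl
    simp [G', this]
  refine ⟨G', LinearMap.ext fun y => ?_, fun G'' hG'' => LinearMap.ext fun y => ?_⟩
  · obtain ⟨y, rfl⟩ := Submodule.Quotient.mk_surjective K₀ y
    simp only [f, LinearMap.comp_apply, LinearMap.coe_restrictScalars, Submodule.liftQ_apply, hG']
    exact LinearMap.congr_fun hG y
  · obtain ⟨y, rfl⟩ := hπ y
    rw [hG', ← LinearMap.comp_apply, show G'' ∘ₗ π = G from ?_]
    refine LinearMap.pi_ext' fun i => LinearMap.ext_ring ?_
    simp only [LinearMap.comp_apply, LinearMap.coe_single]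
    have h1 := LinearMap.congr_fun hG'' (Submodule.Quotient.mk (Pi.single i 1))
    have h2 : ι (Pi.single i 1) = Pi.single i 1 := funext fun i' => by
      by_cases hi : i' = i <;> simp [ι, hi]
    simp only [f, LinearMap.comp_apply, LinearMap.coe_restrictScalars, Submodule.liftQ_apply, h2] at h1
    rw [h1]
    simp [G, e, Fintype.linearCombination_apply_single]

/-- A finitely presented module over a polynomial ring over any ring comes from a finitely generated
subring of the coefficients. -/
theorem exists_module_model {B : Type u} [CommRing B] (n : ℕ) (M : Type u) [AddCommGroup M]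
    [Module (MvPolynomial (Fin n) B) M] [Module.FinitePresentation (MvPolynomial (Fin n) B) M]
    (s : Finset B) :
    ∃ R : Subalgebra ℤ B, R.FG ∧ ↑s ⊆ (R : Set B) ∧ ∃ (M₀ : Type u) (_ : AddCommGroup M₀)
      (_ : Module (MvPolynomial (Fin n) R) M₀), Module.Finite (MvPolynomial (Fin n) R) M₀ ∧
      Nonempty (MvPolynomial (Fin n) B ⊗[MvPolynomial (Fin n) R] M₀ ≃ₗ[MvPolynomial (Fin n) B] M) := by
  classical
  obtain ⟨m, k, π, g, hπ, hex⟩ := Module.FinitePresentation.exists_fin' (MvPolynomial (Fin n) B) M
  let a : Fin k → Fin m → MvPolynomial (Fin n) B := fun j => g (Pi.single j 1)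
  let cs : Finset B := Finset.univ.biUnion fun j => Finset.univ.biUnion fun i => (a j i).coeffs
  let R : Subalgebra ℤ B := Algebra.adjoin ℤ (↑(s ∪ cs) : Set B)
  refine ⟨R, Subalgebra.fg_adjoin_finset _, fun x hx => Algebra.subset_adjoin (by simp [Finset.mem_coe.1 hx]), ?_⟩
  have hlift : ∀ j i, a j i ∈ Set.range (MvPolynomial.map (algebraMap R B)) := by
    intro j i
    rw [MvPolynomial.mem_range_map_iff_coeffs_subset]
    intro c hc
    refine ⟨⟨c, Algebra.subset_adjoin ?_⟩, rfl⟩
    simp only [Finset.coe_union, Set.mem_union, Finset.mem_coe]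
    exact Or.inr (Finset.mem_biUnion.2 ⟨j, Finset.mem_univ _, Finset.mem_biUnion.2 ⟨i, Finset.mem_univ _, hc⟩⟩)
  choose a₀ ha₀ using hlift
  exact exists_module_model_aux π g hπ hex a₀ ha₀

theorem isLocalizedModule_comap {P S M : Type u} [CommRing P] [CommRing S] [Algebra P S] [AddCommGroup M]
    [Module S M] [Module P M] [IsScalarTower P S M] (h : Surjective (algebraMap P S)) (q : Ideal S) [q.IsPrime] :
    IsLocalizedModule (q.comap (algebraMap P S)).primeCompl
      ((LocalizedModule.mkLinearMap q.primeCompl M).restrictScalars P) := by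
  let g := (LocalizedModule.mkLinearMap q.primeCompl M).restrictScalars P
  refine ⟨fun x => ?_, fun y => ?_, fun {a b} hab => ?_⟩
  · have := IsLocalizedModule.map_units (LocalizedModule.mkLinearMap q.primeCompl M)
      (⟨algebraMap P S x, x.2⟩ : q.primeCompl)
    rw [Module.End.isUnit_iff] at this ⊢
    convert this using 1
    ext z
    exact (algebraMap_smul S (x : P) z).symm
  · obtain ⟨⟨a, t⟩, ha⟩ := IsLocalizedModule.surj q.primeCompl (LocalizedModule.mkLinearMap q.primeCompl M) y
    obtain ⟨t', ht'⟩ := h t
    refine ⟨⟨a, t', fun h' => t.2 (ht' ▸ h')⟩, ?_⟩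
    rw [Submonoid.smul_def]
    dsimp only
    change t' • y = g a
    rw [← algebraMap_smul S t' y, ht']
    exact ha
  · obtain ⟨t, ht⟩ := IsLocalizedModule.exists_of_eq (S := q.primeCompl) hab
    obtain ⟨t', ht'⟩ := h t
    refine ⟨⟨t', fun h' => t.2 (ht' ▸ h')⟩, ?_⟩
    rw [Submonoid.smul_def, Submonoid.smul_def]
    change t' • a = t' • b
    rw [← algebraMap_smul S t' a, ← algebraMap_smul S t' b, ht']
    exact ht

/-- Localizing a module over a quotient ring. -/
theorem flat_localized_iff_of_surjective {B P S M : Type u} [CommRing B] [CommRing P] [CommRing S] [Algebra B P]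
    [Algebra P S] [Algebra B S] [IsScalarTower B P S] [AddCommGroup M] [Module S M] [Module P M] [Module B M]
    [IsScalarTower P S M] [IsScalarTower B S M] [IsScalarTower B P M] (h : Surjective (algebraMap P S))
    (q : Ideal S) [q.IsPrime] :
    Module.Flat B (LocalizedModule q.primeCompl M) ↔
      Module.Flat B (LocalizedModule (q.comap (algebraMap P S)).primeCompl M) := by
  let g := (LocalizedModule.mkLinearMap q.primeCompl M).restrictScalars P
  have : IsLocalizedModule (q.comap (algebraMap P S)).primeCompl g := isLocalizedModule_comap h q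
  let e := (IsLocalizedModule.linearEquiv (q.comap (algebraMap P S)).primeCompl g
    (LocalizedModule.mkLinearMap (q.comap (algebraMap P S)).primeCompl M)).restrictScalars B
  exact Module.Flat.equiv_iff e

/-- Openness of the flat locus of a finitely presented module over a finitely presented algebra. -/
theorem isOpen_flatLocus {B S M : Type u} [CommRing B] [CommRing S] [Algebra B S]
    [Algebra.FinitePresentation B S] [AddCommGroup M] [Module S M] [Module B M] [IsScalarTower B S M]
    [Module.FinitePresentation S M] :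
    IsOpen {q : PrimeSpectrum S | Module.Flat B (LocalizedModule q.asIdeal.primeCompl M)} := by
  obtain ⟨n, φ, hφ, hker⟩ := Algebra.FinitePresentation.out (R := B) (A := S)
  algebraize [φ.toRingHom]
  have : IsScalarTower B (MvPolynomial (Fin n) B) S := IsScalarTower.of_algebraMap_eq fun x => (φ.commutes x).symm
  let : Module (MvPolynomial (Fin n) B) M := Module.compHom M φ.toRingHom
  have : IsScalarTower (MvPolynomial (Fin n) B) S M := IsScalarTower.of_compHom _ _ M
  have : IsScalarTower B (MvPolynomial (Fin n) B) M := IsScalarTower.of_algebraMap_smul fun x m => by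
    rw [← algebraMap_smul S (algebraMap B (MvPolynomial (Fin n) B) x) m, ← IsScalarTower.algebraMap_apply,
      algebraMap_smul]
  have : Module.FinitePresentation (MvPolynomial (Fin n) B) S :=
    Module.finitePresentation_of_surjective (Algebra.linearMap (MvPolynomial (Fin n) B) S) hφ
      (by exact hker)
  have : Module.FinitePresentation (MvPolynomial (Fin n) B) M := Module.FinitePresentation.trans _ M S
  obtain ⟨R, hR, -, M₀, _, _, _, ⟨e⟩⟩ := exists_module_model (B := B) n M ∅
  have : Algebra.FiniteType ℤ R := (Subalgebra.fg_iff_finiteType R).1 hR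
  have : IsNoetherianRing R := Algebra.FiniteType.isNoetherianRing ℤ R
  let : Module R M₀ := Module.compHom M₀ (MvPolynomial.C : R →+* MvPolynomial (Fin n) R)
  have : IsScalarTower R (MvPolynomial (Fin n) R) M₀ := IsScalarTower.of_compHom _ _ M₀
  have hopen := isOpen_flatLocus_baseChange (R := R) (C₀ := MvPolynomial (Fin n) R) (M₀ := M₀) (B := B)
    (C_B := MvPolynomial (Fin n) B) inferInstance
  convert hopen.preimage (PrimeSpectrum.continuous_comap φ.toRingHom) using 1
  ext q
  simp only [Set.mem_setOf_eq, Set.mem_preimage]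
  rw [flat_localized_iff_of_surjective (P := MvPolynomial (Fin n) B) hφ q.asIdeal]
  constructor
  · intro h
    exact @flat_localized_congr _ _ _ _ _ _ _ _ _ _ _ _ _ _ _ e.symm _ h
  · intro h
    have : Module.Flat B (LocalizedModule (q.asIdeal.comap (algebraMap (MvPolynomial (Fin n) B) S)).primeCompl
      (MvPolynomial (Fin n) B ⊗[MvPolynomial (Fin n) R] M₀)) := h
    exact flat_localized_congr e _

end Groth.Agent.FlatLocus
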