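import Groth.Agent.FlatLocus.Fibre
import Groth.Agent.FlatLocus.Model
import Mathlib.RingTheory.Extension.Presentation.Core
import Mathlib.RingTheory.FinitePresentation
import Mathlib.RingTheory.Flat.FaithfullyFlat.Basic

/-!
# The fibrewise criterion of flatness in the finitely presented case
-/

set_option autoImplicit false
set_option backward.isDefEq.respectTransparency false

universe u

open scoped TensorProduct
open LinearMap Function

namespace Groth.Agent.FlatLocus

theorem RelFlat.congr {R : Type u} [CommRing R] {p : Ideal R} {S : Type u} [CommRing S] [Algebra R S]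
    {N N' : Type u} [AddCommMonoid N] [Module S N] [AddCommMonoid N'] [Module S N'] (h : RelFlat R p S N)
    (e : N ≃ₗ[S] N') : RelFlat R p S N' := by
  intro X Y _ _ _ _ f hX hY hf x x' hxx
  apply (TensorProduct.congr e.symm (LinearEquiv.refl S X)).injective
  apply h f hX hY hf
  have : ∀ z : N' ⊗[S] X, f.lTensor N (TensorProduct.congr e.symm (LinearEquiv.refl S X) z) =
      TensorProduct.congr e.symm (LinearEquiv.refl S Y) (f.lTensor N' z) := by
    intro z
    induction z with
    | zero => simp
    | add a b ha hb => simp only [map_add, ha, hb]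
    | tmul a b => simp
  rw [this, this, hxx]

/-- Localizations of isomorphic modules. -/
noncomputable def localizedEquiv {S C M M' : Type u} [CommRing S] [CommRing C] [Algebra S C] [AddCommGroup M]
    [Module C M] [AddCommGroup M'] [Module C M'] [Module S M] [IsScalarTower S C M] [Module S M']
    [IsScalarTower S C M'] (e : M ≃ₗ[C] M') (U : Submonoid C) :
    LocalizedModule U M ≃ₗ[S] LocalizedModule U M' :=
  have : IsLocalizedModule U (LocalizedModule.mkLinearMap U M' ∘ₗ e.toLinearMap) :=
    IsLocalizedModule.of_linearEquiv_right U _ e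
  (IsLocalizedModule.linearEquiv U (LocalizedModule.mkLinearMap U M)
    (LocalizedModule.mkLinearMap U M' ∘ₗ e.toLinearMap)).restrictScalars S

/-- Flatness over a quotient from flatness over the ring. -/
theorem flat_of_flat_of_surjective {T S N : Type u} [CommRing T] [CommRing S] [Algebra T S] [AddCommGroup N]
    [Module S N] [Module T N] [IsScalarTower T S N] (h : Surjective (algebraMap T S)) [Module.Flat T N] :
    Module.Flat S N := by
  rw [Module.Flat.iff_lTensor_preserves_injective_linearMap]
  intro X Y _ _ _ _ f hf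
  let : Module T X := Module.compHom X (algebraMap T S)
  have : IsScalarTower T S X := IsScalarTower.of_compHom T S X
  let : Module T Y := Module.compHom Y (algebraMap T S)
  have : IsScalarTower T S Y := IsScalarTower.of_compHom T S Y
  have : ∀ (V : Type u) [AddCommGroup V] [Module S V] [Module T V] [IsScalarTower T S V],
      TensorProduct.CompatibleSMul T S N V := fun V _ _ _ _ => ⟨fun s a b => by
    obtain ⟨t, rfl⟩ := h s
    rw [algebraMap_smul, algebraMap_smul, TensorProduct.smul_tmul]⟩
  let e := fun (V : Type u) [AddCommGroup V] [Module S V] [Module T V] [IsScalarTower T S V] =>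
    (TensorProduct.mapOfCompatibleSMul S T T N V)
  have hnat : ∀ z, f.lTensor N (e X z) = e Y ((f.restrictScalars T).lTensor N z) := by
    intro z
    induction z with
    | zero => simp
    | add a b ha hb => simp only [map_add, ha, hb]
    | tmul a b => simp [e]
  rw [injective_iff_map_eq_zero]
  intro z hz
  obtain ⟨z, rfl⟩ := TensorProduct.mapOfCompatibleSMul_surjective S T T N X z
  rw [hnat] at hz
  have h0 : (f.restrictScalars T).lTensor N z = 0 := by
    have := this Y
    exact (TensorProduct.equivOfCompatibleSMul S T T N Y).injective (hz.trans (map_zero _).symm)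
  rw [Module.Flat.lTensor_preserves_injective_linearMap (f.restrictScalars T) hf (h0.trans (map_zero _).symm),
    map_zero]

/-- Localizations of a module over a quotient ring. -/
noncomputable def localizedQuotEquiv {P S M : Type u} [CommRing P] [CommRing S] [Algebra P S] [AddCommGroup M]
    [Module S M] [Module P M] [IsScalarTower P S M] (h : Surjective (algebraMap P S)) (q : Ideal S) [q.IsPrime] :
    LocalizedModule q.primeCompl M ≃ₗ[P] LocalizedModule (q.comap (algebraMap P S)).primeCompl M :=
  have := isLocalizedModule_comap (M := M) h q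
  IsLocalizedModule.linearEquiv (q.comap (algebraMap P S)).primeCompl
    ((LocalizedModule.mkLinearMap q.primeCompl M).restrictScalars P)
    (LocalizedModule.mkLinearMap (q.comap (algebraMap P S)).primeCompl M)

/-- If a nontrivial localization of a finite module is flat over `R` and over `T`, the image of `T` is flat. -/
theorem flat_localized_source_of_flat {R T S S' M : Type u} [CommRing R] [CommRing T] [CommRing S] [CommRing S']
    [Algebra R T] [Algebra R S] [Algebra R S'] [Algebra T S] [Algebra T S'] [Algebra S S']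
    [IsScalarTower R T S] [IsScalarTower R T S'] [IsScalarTower T S S']
    [AddCommGroup M] [Module S' M] [Module T M] [Module R M] [IsScalarTower T S' M] [IsScalarTower R S' M]
    [Module.Finite S' M] (hπ : Surjective (algebraMap T S)) (q : Ideal S') [q.IsPrime]
    [Nontrivial (LocalizedModule q.primeCompl M)] [Module.Flat T (LocalizedModule q.primeCompl M)]
    [Module.Flat R (LocalizedModule q.primeCompl M)] :
    Module.Flat R (LocalizedModule (q.comap (algebraMap S S')).primeCompl S) := by
  let qT := (q.comap (algebraMap S S')).comap (algebraMap T S)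
  let Tq := Localization.AtPrime qT
  let Sq := Localization.AtPrime q
  let N := LocalizedModule q.primeCompl M
  have hqT : qT = q.comap (algebraMap T S') := by
    simp only [qT, Ideal.comap_comap, ← IsScalarTower.algebraMap_eq]
  let ρ : Tq →+* Sq := Localization.localRingHom qT q (algebraMap T S') hqT
  have : IsLocalHom ρ := Localization.isLocalHom_localRingHom qT q (algebraMap T S') hqT
  let : Algebra Tq Sq := ρ.toAlgebra
  let : Module Tq N := Module.compHom N ρ
  have : IsScalarTower Tq Sq N := IsScalarTower.of_compHom Tq Sq N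
  have hTS : ∀ t, algebraMap Tq Sq (algebraMap T Tq t) = algebraMap S' Sq (algebraMap T S' t) := fun t =>
    Localization.localRingHom_to_map qT q (algebraMap T S') hqT t
  have : IsScalarTower T Tq N := IsScalarTower.of_algebraMap_smul fun t z => by
    change algebraMap Tq Sq (algebraMap T Tq t) • z = t • z
    rw [hTS, algebraMap_smul, algebraMap_smul]
  have : IsScalarTower R Tq N := IsScalarTower.of_algebraMap_smul fun r z => by
    rw [IsScalarTower.algebraMap_apply R T Tq, algebraMap_smul, ← algebraMap_smul S' (algebraMap R T r) z,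
      ← IsScalarTower.algebraMap_apply, algebraMap_smul]
  have : Module.Flat Tq N := (Module.flat_iff_of_isLocalization Tq qT.primeCompl N).2 ‹_›
  have : Module.Finite Sq N :=
    Module.Finite.of_isLocalizedModule q.primeCompl (LocalizedModule.mkLinearMap q.primeCompl M)
  let : AddCommGroup N := Module.addCommMonoidToAddCommGroup Sq
  have : Module.FaithfullyFlat Tq N := by
    refine ⟨fun {m} hm e => ?_⟩
    rw [IsLocalRing.eq_maximalIdeal hm] at e
    have h1 : (⊤ : Submodule Sq N) ≤ IsLocalRing.maximalIdeal Sq • ⊤ := fun x _ => by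
      have := Groth.Agent.FlatCrit.mem_map_smul_top (S := Sq) (e.ge (Submodule.mem_top (x := x)))
      exact Submodule.smul_mono (((IsLocalRing.local_hom_TFAE (algebraMap Tq Sq)).out 0 2).mp ‹_›) le_rfl this
    exact top_ne_bot (Submodule.eq_bot_of_le_smul_of_le_jacobson_bot _ _ Module.Finite.fg_top h1
      (IsLocalRing.maximalIdeal_le_jacobson _))
  -- `Tq` is flat over `R`
  have hTq : Module.Flat R Tq := by
    rw [Module.Flat.iff_lTensor_injective']
    intro K
    let f : Tq ⊗[R] K →ₗ[Tq] Tq ⊗[R] R := TensorProduct.AlgebraTensorModule.lTensor Tq Tq K.subtype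
    have hf : Function.Injective (f.lTensor N) := by
      have h1 := TensorProduct.AlgebraTensorModule.lTensor_comp_cancelBaseChange R Tq Tq (M := N) K.subtype
      intro x y hxy
      apply (TensorProduct.AlgebraTensorModule.cancelBaseChange R Tq Tq N K).injective
      apply Module.Flat.lTensor_preserves_injective_linearMap (M := N) K.subtype Subtype.val_injective
      have hx := LinearMap.congr_fun h1 x
      have hy := LinearMap.congr_fun h1 y
      simp only [LinearMap.coe_comp, Function.comp_apply, LinearEquiv.coe_coe] at hx hy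
      exact hx.trans ((congrArg _ hxy).trans hy.symm)
    exact (Module.FaithfullyFlat.lTensor_injective_iff_injective Tq N f).mp hf
  -- the kernel dies in `Tq`
  have hK : ∀ t : T, algebraMap T S t = 0 → algebraMap T Tq t = 0 := fun t ht => by
    by_contra hne
    let μ : Tq →ₗ[Tq] Tq := LinearMap.mulLeft Tq (algebraMap T Tq t)
    have h0 : μ.lTensor N = 0 := TensorProduct.ext' fun n a => by
      change n ⊗ₜ[Tq] (algebraMap T Tq t * a) = 0
      rw [← smul_eq_mul, ← TensorProduct.smul_tmul, algebraMap_smul, ← algebraMap_smul S' t n,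
        IsScalarTower.algebraMap_apply T S S', ht, map_zero, zero_smul, TensorProduct.zero_tmul]
    have := (Module.FaithfullyFlat.zero_iff_lTensor_zero Tq N μ).2 h0
    exact hne (by simpa [μ] using LinearMap.congr_fun this 1)
  rw [flat_localized_iff_of_surjective (B := R) (P := T) hπ (q.comap (algebraMap S S'))]
  let U := qT.primeCompl
  let σ : LocalizedModule U T →ₗ[T] LocalizedModule U S :=
    IsLocalizedModule.map U (LocalizedModule.mkLinearMap U T) (LocalizedModule.mkLinearMap U S) (Algebra.linearMap T S)
  have hσ : Bijective σ := by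
    refine ⟨?_, IsLocalizedModule.map_surjective U _ _ _ hπ⟩
    rw [injective_iff_map_eq_zero]
    intro x hx
    obtain ⟨⟨a, s⟩, hs⟩ := IsLocalizedModule.surj U (LocalizedModule.mkLinearMap U T) x
    have h1 : LocalizedModule.mkLinearMap U S (algebraMap T S a) = 0 := by
      rw [← Algebra.linearMap_apply, ← IsLocalizedModule.map_apply U (LocalizedModule.mkLinearMap U T), ← hs,
        Submonoid.smul_def, map_smul, show IsLocalizedModule.map U (LocalizedModule.mkLinearMap U T)
        (LocalizedModule.mkLinearMap U S) (Algebra.linearMap T S) x = 0 from hx, smul_zero]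
    obtain ⟨u, hu⟩ := (IsLocalizedModule.eq_zero_iff U _).1 h1
    have h2 : algebraMap T Tq ((u : T) * a) = 0 := hK _ (by rw [map_mul, ← Algebra.smul_def]; exact hu)
    obtain ⟨w, hw⟩ := (IsLocalization.map_eq_zero_iff U Tq _).1 h2
    apply IsLocalizedModule.smul_injective (LocalizedModule.mkLinearMap U T) (w * u * s)
    dsimp only
    rw [mul_smul, hs, mul_smul, Submonoid.smul_def, Submonoid.smul_def, ← map_smul, ← map_smul,
      smul_eq_mul, smul_eq_mul, hw, map_zero]
    exact (smul_zero _).symm
  have : Module.Flat R (LocalizedModule U T) :=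
    (Module.Flat.equiv_iff ((IsLocalizedModule.linearEquiv U (LocalizedModule.mkLinearMap U T)
      (Algebra.linearMap T Tq)).restrictScalars R)).2 hTq
  exact (Module.Flat.equiv_iff ((LinearEquiv.ofBijective σ hσ).restrictScalars R)).1 this

attribute [local instance] Algebra.TensorProduct.rightAlgebra

/-- The fibrewise criterion for a module coming from a noetherian model. -/
theorem flat_of_model {R₁ R T₁ T C₁ C : Type u} [CommRing R₁] [CommRing R] [CommRing T₁] [CommRing T]
    [CommRing C₁] [CommRing C] [IsNoetherianRing R₁] [Algebra R₁ R] [Algebra R₁ T₁] [Algebra R₁ C₁]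
    [Algebra R₁ T] [Algebra R₁ C] [Algebra R T] [Algebra R C] [Algebra T₁ T] [Algebra T₁ C₁] [Algebra T₁ C]
    [Algebra T C] [Algebra C₁ C] [IsScalarTower R₁ R T] [IsScalarTower R₁ R C] [IsScalarTower R₁ T₁ T]
    [IsScalarTower R₁ C₁ C] [IsScalarTower R₁ T₁ C₁] [IsScalarTower T₁ C₁ C] [IsScalarTower T₁ T C]
    [IsScalarTower R T C] [Algebra.FiniteType R₁ T₁] [Algebra.FiniteType R₁ C₁]
    [Algebra.IsPushout R₁ R T₁ T] [Algebra.IsPushout R₁ R C₁ C]
    {M₁ : Type u} [AddCommGroup M₁] [Module C₁ M₁] [Module.Finite C₁ M₁]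
    (q : Ideal C) [q.IsPrime] [Module.Flat R (Loc C₁ M₁ q)]
    (hfib : RelFlat R (q.comap (algebraMap R C)) T (Loc C₁ M₁ q)) :
    Module.Flat T (Loc C₁ M₁ q) := by
  classical
  let : Module R₁ M₁ := Module.compHom M₁ (algebraMap R₁ C₁)
  have : IsScalarTower R₁ C₁ M₁ := IsScalarTower.of_compHom R₁ C₁ M₁
  obtain ⟨s, hs⟩ := exists_flat_stage (R := R₁) (C₀ := C₁) (M₀ := M₁) (B := R) q
  let S : Subalgebra R₁ R := Algebra.adjoin R₁ (s : Set R)
  have hfg : Algebra.FiniteType R₁ S := Algebra.FiniteType.adjoin_of_finite s.finite_toSet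
  have : IsNoetherianRing S := Algebra.FiniteType.isNoetherianRing R₁ S
  let T₂ := S ⊗[R₁] T₁
  let C₂ := S ⊗[R₁] C₁
  let mT : T₂ →ₐ[R₁] T := stageMap T₁ T S
  let mC : C₂ →ₐ[R₁] C := stageMap C₁ C S
  let τ : T₂ →ₐ[S] C₂ := Algebra.TensorProduct.map (AlgHom.id S S) (IsScalarTower.toAlgHom R₁ T₁ C₁)
  let : Algebra T₂ T := mT.toRingHom.toAlgebra
  let : Algebra C₂ C := mC.toRingHom.toAlgebra
  let : Algebra T₂ C₂ := τ.toRingHom.toAlgebra
  let : Algebra T₂ C := (mC.toRingHom.comp τ.toRingHom).toAlgebra
  have : IsScalarTower S T₂ T := ⟨fun x y m => by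
    change mT (x • y) * m = (x : R) • (mT y * m)
    rw [show x • y = algebraMap S T₂ x * y from Algebra.smul_def x y, map_mul, Algebra.smul_def, mul_assoc]
    simp [mT, stageMap, T₂]⟩
  have : IsScalarTower S C₂ C := ⟨fun x y m => by
    change mC (x • y) * m = (x : R) • (mC y * m)
    rw [show x • y = algebraMap S C₂ x * y from Algebra.smul_def x y, map_mul, Algebra.smul_def, mul_assoc]
    simp [mC, stageMap, C₂]⟩
  have : IsScalarTower S T₂ C₂ := IsScalarTower.of_algebraMap_eq fun x => (τ.commutes x).symm
  have : IsScalarTower T₂ C₂ C := IsScalarTower.of_algebraMap_eq fun _ => rfl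
  have hcomp : ∀ y : T₂, mC (τ y) = algebraMap T C (mT y) := by
    intro y
    induction y using TensorProduct.induction_on with
    | zero => simp
    | add a b ha hb => simp only [map_add, ha, hb]
    | tmul a b =>
      change algebraMap R C (a : R) * algebraMap C₁ C (algebraMap T₁ C₁ b) =
        algebraMap T C (algebraMap R T (a : R) * algebraMap T₁ T b)
      simp [← IsScalarTower.algebraMap_apply R T C, ← IsScalarTower.algebraMap_apply T₁ C₁ C,
        ← IsScalarTower.algebraMap_apply T₁ T C]
  have : IsScalarTower T₂ T C := IsScalarTower.of_algebraMap_eq fun y => hcomp y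
  have : IsScalarTower R₁ T₂ T := IsScalarTower.of_algebraMap_eq fun x => (mT.commutes x).symm
  have : IsScalarTower R₁ C₂ C := IsScalarTower.of_algebraMap_eq fun x => (mC.commutes x).symm
  have : IsScalarTower T₁ T₂ T := IsScalarTower.of_algebraMap_eq fun x => by
    change algebraMap T₁ T x = algebraMap R T ((1 : S) : R) * algebraMap T₁ T x
    simp
  have : IsScalarTower C₁ C₂ C := IsScalarTower.of_algebraMap_eq fun x => by
    change algebraMap C₁ C x = algebraMap R C ((1 : S) : R) * algebraMap C₁ C x
    simp
  have : Algebra.IsPushout S R T₂ T := (Algebra.IsPushout.comp_iff R₁ S T₁ T₂).1 inferInstance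
  have : Algebra.IsPushout S R C₂ C := (Algebra.IsPushout.comp_iff R₁ S C₁ C₂).1 inferInstance
  let M₂ := C₂ ⊗[C₁] M₁
  let : Module T₂ M₂ := Module.compHom M₂ (algebraMap T₂ C₂)
  have : IsScalarTower T₂ C₂ M₂ := IsScalarTower.of_compHom T₂ C₂ M₂
  have : IsScalarTower S T₂ M₂ := ⟨fun x y m => by
    change τ (x • y) • m = x • (τ y • m)
    rw [map_smul, smul_assoc]⟩
  let q₂ := q.comap (algebraMap C₂ C)
  have : q₂.IsPrime := Ideal.IsPrime.comap _
  have : Module.Flat S (LocalizedModule q₂.primeCompl M₂) := hs S Algebra.subset_adjoin hfg q₂ rfl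
  let e : C ⊗[C₂] M₂ ≃ₗ[C] C ⊗[C₁] M₁ :=
    TensorProduct.AlgebraTensorModule.cancelBaseChange C₁ C₂ C C M₁
  have : Module.Flat T₂ (LocalizedModule q₂.primeCompl M₂) :=
    flat_stage_of_fibre (R₀ := S) (S₀ := T₂) (S := T) (C₀ := C₂) (C := C) (M₀ := M₂) q _ rfl q₂ rfl
      (hfib.congr (localizedEquiv e.symm q.primeCompl))
  have : IsScalarTower S T C := IsScalarTower.of_algebraMap_smul fun x m => by
    rw [Algebra.smul_def]
    change algebraMap T C (algebraMap R T x) * m = (x : R) • m
    rw [← IsScalarTower.algebraMap_apply, Algebra.smul_def]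
  have : Algebra.IsPushout T₂ T C₂ C := by
    have : Algebra.IsPushout S T₂ R T := Algebra.IsPushout.symm inferInstance
    exact Algebra.IsPushout.symm
      ((Algebra.IsPushout.comp_iff (R := S) (S := T₂) (R' := R) (S' := T) (T := C₂) (T' := C)).1
        (Algebra.IsPushout.symm inferInstance))
  have : Module.Flat T (Loc C₂ M₂ q) := flat_loc_of_flat (R := T₂) q q₂ le_rfl
  exact flat_localized_congr e q.primeCompl

attribute [local instance] MvPolynomial.algebraMvPolynomial

/-- The fibrewise criterion for polynomial algebras over a finitely presented algebra. -/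
theorem flat_of_relFlat_mvPolynomial {R T : Type u} [CommRing R] [CommRing T] [Algebra R T]
    [Algebra.FinitePresentation R T] (m : ℕ) {M : Type u} [AddCommGroup M] [Module (MvPolynomial (Fin m) T) M]
    [Module.FinitePresentation (MvPolynomial (Fin m) T) M] [Module T M] [IsScalarTower T (MvPolynomial (Fin m) T) M]
    [Module R M] [IsScalarTower R (MvPolynomial (Fin m) T) M]
    (q : Ideal (MvPolynomial (Fin m) T)) [q.IsPrime] [Module.Flat R (LocalizedModule q.primeCompl M)]
    (hfib : RelFlat R (q.comap (algebraMap R (MvPolynomial (Fin m) T))) T (LocalizedModule q.primeCompl M)) :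
    Module.Flat T (LocalizedModule q.primeCompl M) := by
  classical
  let P := Algebra.Presentation.ofFinitePresentation R T
  obtain ⟨N, k, π, g, hπ, hex⟩ := Module.FinitePresentation.exists_fin' (MvPolynomial (Fin m) T) M
  let a : Fin k → Fin N → MvPolynomial (Fin m) T := fun j => g (Pi.single j 1)
  let cs : Finset T := Finset.univ.biUnion fun j => Finset.univ.biUnion fun i => (a j i).coeffs
  choose G hG using fun t : T => P.toGenerators.aeval_val_surjective t
  let R₁ : Subalgebra ℤ R := Algebra.adjoin ℤ (P.coeffs ∪ ↑(cs.biUnion fun t => (G t).coeffs))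
  have : P.HasCoeffs R₁ := ⟨fun x hx => ⟨⟨x, Algebra.subset_adjoin (Or.inl hx)⟩, rfl⟩⟩
  have : Algebra.FiniteType ℤ R₁ :=
    Algebra.FiniteType.adjoin_of_finite (P.finite_coeffs.union (Finset.finite_toSet _))
  have : IsNoetherianRing R₁ := Algebra.FiniteType.isNoetherianRing ℤ R₁
  let T₁ := P.ModelOfHasCoeffs R₁
  let e := P.tensorModelOfHasCoeffsEquiv R₁
  let ψ : T₁ →ₐ[R₁] T := (e.toAlgHom.restrictScalars R₁).comp Algebra.TensorProduct.includeRight
  let : Algebra T₁ T := ψ.toRingHom.toAlgebra
  have : IsScalarTower R₁ T₁ T := IsScalarTower.of_algebraMap_eq fun x => (ψ.commutes x).symm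
  have : Algebra.IsPushout R₁ R T₁ T :=
    Algebra.IsPushout.of_equiv (R := R₁) (R' := R) (S := T₁) (S' := R ⊗[R₁] T₁) e rfl
  have hrange : ∀ t ∈ cs, t ∈ Set.range (algebraMap T₁ T) := by
    intro t ht
    obtain ⟨G₁, hG₁⟩ : G t ∈ Set.range (MvPolynomial.map (algebraMap R₁ R)) := by
      rw [MvPolynomial.mem_range_map_iff_coeffs_subset]
      exact fun x hx => ⟨⟨x, Algebra.subset_adjoin (Or.inr (Finset.mem_coe.2 (Finset.mem_biUnion.2 ⟨t, ht, hx⟩)))⟩, rfl⟩
    refine ⟨Ideal.Quotient.mk _ G₁, ?_⟩
    change e (1 ⊗ₜ Ideal.Quotient.mk _ G₁) = t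
    rw [P.tensorModelOfHasCoeffsEquiv_tmul, map_one, one_mul, ← MvPolynomial.aeval_map_algebraMap R, hG₁, hG]
  have hlift : ∀ j i, a j i ∈ Set.range (MvPolynomial.map (algebraMap T₁ T)) := by
    intro j i
    rw [MvPolynomial.mem_range_map_iff_coeffs_subset]
    exact fun c hc => hrange c
      (Finset.mem_biUnion.2 ⟨j, Finset.mem_univ _, Finset.mem_biUnion.2 ⟨i, Finset.mem_univ _, hc⟩⟩)
  choose a₀ ha₀ using hlift
  obtain ⟨M₁, _, _, _, ⟨eM⟩⟩ := exists_module_model_aux π g hπ hex a₀ ha₀
  let C := MvPolynomial (Fin m) T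
  let C₁ := MvPolynomial (Fin m) T₁
  have : IsScalarTower R₁ C₁ C := IsScalarTower.of_algebraMap_eq fun x => by
    rw [IsScalarTower.algebraMap_apply R₁ T C, IsScalarTower.algebraMap_apply R₁ T₁ C₁,
      ← IsScalarTower.algebraMap_apply T₁ C₁ C, IsScalarTower.algebraMap_apply T₁ T C,
      ← IsScalarTower.algebraMap_apply R₁ T₁ T]
  have : Algebra.IsPushout T₁ T C₁ C := inferInstance
  have : Algebra.IsPushout R₁ R C₁ C := by
    have : Algebra.IsPushout R₁ T₁ R T := Algebra.IsPushout.symm inferInstance
    exact Algebra.IsPushout.symm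
      ((Algebra.IsPushout.comp_iff (R := R₁) (S := T₁) (R' := R) (S' := T) (T := C₁) (T' := C)).2
        (Algebra.IsPushout.symm inferInstance))
  have : Module.Flat R (Loc C₁ M₁ q) := flat_localized_congr eM.symm q.primeCompl
  have := flat_of_model (R₁ := R₁) (T₁ := T₁) (C₁ := C₁) (M₁ := M₁) q
    (hfib.congr (localizedEquiv eM.symm q.primeCompl))
  exact flat_localized_congr eM q.primeCompl

/-- Fibrewise, finitely many equations suffice. -/
theorem exists_finset_fibre_span {R : Type u} [CommRing R] (p : Ideal R) [p.IsPrime] {n : ℕ}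
    (J : Ideal (MvPolynomial (Fin n) R)) :
    ∃ j : Finset (MvPolynomial (Fin n) R), ↑j ⊆ (J : Set (MvPolynomial (Fin n) R)) ∧
      ∀ k ∈ J, ∃ c ∉ p, MvPolynomial.C c * k ∈ Ideal.span (j : Set _) ⊔ p.map MvPolynomial.C := by
  classical
  let χ := MvPolynomial.map (σ := Fin n) (algebraMap R p.ResidueField)
  have hden : ∀ a : MvPolynomial (Fin n) p.ResidueField, ∃ c ∉ p, ∃ b, χ b = χ (MvPolynomial.C c) * a := by
    intro a
    induction a using MvPolynomial.induction_on with
    | C r =>
      obtain ⟨x, y, hy, hr⟩ := IsFractionRing.div_surjective (R ⧸ p) r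
      obtain ⟨x, rfl⟩ := Ideal.Quotient.mk_surjective x
      obtain ⟨y, rfl⟩ := Ideal.Quotient.mk_surjective y
      have hy0 : algebraMap R p.ResidueField y ≠ 0 := by
        rw [Ne, Ideal.algebraMap_residueField_eq_zero]
        exact fun h => nonZeroDivisors.ne_zero hy (Ideal.Quotient.eq_zero_iff_mem.2 h)
      refine ⟨y, fun h => hy0 (Ideal.algebraMap_residueField_eq_zero.2 h), MvPolynomial.C x, ?_⟩
      simp only [χ, MvPolynomial.map_C, ← map_mul]
      congr 1
      rw [← hr]
      rw [IsScalarTower.algebraMap_apply R (R ⧸ p) p.ResidueField x,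
        IsScalarTower.algebraMap_apply R (R ⧸ p) p.ResidueField y, Ideal.Quotient.algebraMap_eq]
      rw [IsScalarTower.algebraMap_apply R (R ⧸ p) p.ResidueField y, Ideal.Quotient.algebraMap_eq] at hy0
      rw [mul_div_cancel₀ _ hy0]
    | add a b ha hb =>
      obtain ⟨c, hc, a', ha'⟩ := ha
      obtain ⟨d, hd, b', hb'⟩ := hb
      refine ⟨c * d, fun h => (‹p.IsPrime›.mem_or_mem h).elim hc hd,
        MvPolynomial.C d * a' + MvPolynomial.C c * b', ?_⟩
      rw [map_add, map_mul, map_mul, ha', hb', map_mul MvPolynomial.C, map_mul χ]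
      ring
    | mul_X a i ha =>
      obtain ⟨c, hc, a', ha'⟩ := ha
      exact ⟨c, hc, a' * MvPolynomial.X i, by rw [map_mul, ha', MvPolynomial.map_X, mul_assoc]⟩
  obtain ⟨j', hj', hspan⟩ := Submodule.fg_span_iff_fg_span_finset_subset _ |>.1
    (IsNoetherian.noetherian (Submodule.span (MvPolynomial (Fin n) p.ResidueField) (χ '' J)))
  choose f hf hf' using fun x (hx : x ∈ j') => hj' hx
  let j : Finset (MvPolynomial (Fin n) R) := j'.attach.image fun x => f x.1 x.2
  refine ⟨j, fun y hy => ?_, fun k hk => ?_⟩
  · obtain ⟨x, -, rfl⟩ := Finset.mem_image.1 hy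
    exact hf x.1 x.2
  have hk' : χ k ∈ Submodule.span (MvPolynomial (Fin n) p.ResidueField) (j' : Set _) :=
    hspan ▸ Submodule.subset_span ⟨k, hk, rfl⟩
  suffices ∃ c ∉ p, ∃ b ∈ Ideal.span (j : Set _), χ b = χ (MvPolynomial.C c) * χ k by
    obtain ⟨c, hc, b, hb, he⟩ := this
    refine ⟨c, hc, ?_⟩
    rw [← map_mul, ← sub_eq_zero, ← map_sub, ← RingHom.mem_ker, MvPolynomial.ker_map,
      Ideal.ker_algebraMap_residueField] at he
    rw [show MvPolynomial.C c * k = b + -(b - MvPolynomial.C c * k) by ring]
    exact Ideal.add_mem _ (Ideal.mem_sup_left hb) (neg_mem (Ideal.mem_sup_right he))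
  generalize χ k = y at hk'
  induction hk' using Submodule.span_induction with
  | mem x hx =>
    exact ⟨1, fun h => ‹p.IsPrime›.ne_top ((Ideal.eq_top_iff_one p).2 h), f x hx,
      Ideal.subset_span (Finset.mem_image.2 ⟨⟨x, hx⟩, Finset.mem_attach _ _, rfl⟩),
      by rw [hf' x hx, map_one, map_one, one_mul]⟩
  | zero => exact ⟨1, fun h => ‹p.IsPrime›.ne_top ((Ideal.eq_top_iff_one p).2 h), 0, zero_mem _, by simp⟩
  | add x y _ _ hx hy =>
    obtain ⟨c, hc, a, ha, ha'⟩ := hx
    obtain ⟨d, hd, b, hb, hb'⟩ := hy
    refine ⟨c * d, fun h => (‹p.IsPrime›.mem_or_mem h).elim hc hd,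
      MvPolynomial.C d * a + MvPolynomial.C c * b,
      add_mem (Ideal.mul_mem_left _ _ ha) (Ideal.mul_mem_left _ _ hb), ?_⟩
    rw [map_add, map_mul, map_mul, ha', hb', map_mul MvPolynomial.C, map_mul χ]
    ring
  | smul r x _ hx =>
    obtain ⟨c, hc, a, ha, ha'⟩ := hx
    obtain ⟨d, hd, b, hb⟩ := hden r
    refine ⟨c * d, fun h => (‹p.IsPrime›.mem_or_mem h).elim hc hd, b * a, Ideal.mul_mem_left _ _ ha, ?_⟩
    rw [map_mul, hb, ha', map_mul MvPolynomial.C, map_mul χ, smul_eq_mul]
    ring

/-- The fibrewise criterion with a finitely presented intermediate algebra. -/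
theorem flat_of_relFlat_of_finitePresentation {R T S' M : Type u} [CommRing R] [CommRing T] [CommRing S']
    [Algebra R T] [Algebra T S'] [Algebra R S'] [IsScalarTower R T S'] [Algebra.FinitePresentation R T]
    [Algebra.FinitePresentation R S'] [AddCommGroup M] [Module S' M] [Module T M] [Module R M]
    [IsScalarTower T S' M] [IsScalarTower R S' M] [Module.FinitePresentation S' M]
    (q : Ideal S') [q.IsPrime] [Module.Flat R (LocalizedModule q.primeCompl M)]
    (hfib : RelFlat R (q.comap (algebraMap R S')) T (LocalizedModule q.primeCompl M)) :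
    Module.Flat T (LocalizedModule q.primeCompl M) := by
  have : Algebra.FinitePresentation T S' :=
    Algebra.FinitePresentation.of_restrict_scalars_finitePresentation R T S'
  obtain ⟨m, φ, hφ, hker⟩ := Algebra.FinitePresentation.out (R := T) (A := S')
  algebraize [φ.toRingHom]
  have : IsScalarTower T (MvPolynomial (Fin m) T) S' := IsScalarTower.of_algebraMap_eq fun x => (φ.commutes x).symm
  have : IsScalarTower R (MvPolynomial (Fin m) T) S' := IsScalarTower.of_algebraMap_eq fun x => by
    rw [IsScalarTower.algebraMap_apply R T (MvPolynomial (Fin m) T), ← IsScalarTower.algebraMap_apply T,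
      ← IsScalarTower.algebraMap_apply R T S']
  let : Module (MvPolynomial (Fin m) T) M := Module.compHom M φ.toRingHom
  have : IsScalarTower (MvPolynomial (Fin m) T) S' M := IsScalarTower.of_compHom _ _ M
  have : IsScalarTower T (MvPolynomial (Fin m) T) M := IsScalarTower.of_algebraMap_smul fun x z => by
    rw [← algebraMap_smul S' (algebraMap T (MvPolynomial (Fin m) T) x) z, ← IsScalarTower.algebraMap_apply,
      algebraMap_smul]
  have : IsScalarTower R (MvPolynomial (Fin m) T) M := IsScalarTower.of_algebraMap_smul fun x z => by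
    rw [← algebraMap_smul S' (algebraMap R (MvPolynomial (Fin m) T) x) z, ← IsScalarTower.algebraMap_apply,
      algebraMap_smul]
  have : Module.FinitePresentation (MvPolynomial (Fin m) T) S' :=
    Module.finitePresentation_of_surjective (Algebra.linearMap (MvPolynomial (Fin m) T) S') hφ (by exact hker)
  have : Module.FinitePresentation (MvPolynomial (Fin m) T) M := Module.FinitePresentation.trans _ M S'
  let q' := q.comap (algebraMap (MvPolynomial (Fin m) T) S')
  have : Module.Flat R (LocalizedModule q'.primeCompl M) := (flat_localized_iff_of_surjective hφ q).1 ‹_›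
  rw [flat_localized_iff_of_surjective (B := T) (P := MvPolynomial (Fin m) T) hφ q]
  refine flat_of_relFlat_mvPolynomial (R := R) m q' ?_
  rw [Ideal.comap_comap, ← IsScalarTower.algebraMap_eq]
  exact hfib.congr ((localizedQuotEquiv hφ q).restrictScalars T)

variable {R S S' M : Type u} [CommRing R] [CommRing S] [CommRing S'] [Algebra R S] [Algebra S S'] [Algebra R S']
  [IsScalarTower R S S'] [Algebra.FiniteType R S] [Algebra.FinitePresentation R S']
  [AddCommGroup M] [Module S' M] [Module S M] [Module R M] [IsScalarTower S S' M] [IsScalarTower R S' M]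
  [Module.FinitePresentation S' M]

/-- The fibrewise criterion of flatness (EGA IV 11.3.10) at a point. -/
theorem fibre_criterion (q : Ideal S') [q.IsPrime] [Nontrivial (LocalizedModule q.primeCompl M)]
    [Module.Flat R (LocalizedModule q.primeCompl M)]
    (hfib : RelFlat R (q.comap (algebraMap R S')) S (LocalizedModule q.primeCompl M)) :
    Module.Flat S (LocalizedModule q.primeCompl M) ∧
      Module.Flat R (LocalizedModule (q.comap (algebraMap S S')).primeCompl S) := by
  classical
  let p := q.comap (algebraMap R S')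
  let N := LocalizedModule q.primeCompl M
  obtain ⟨n, π, hπ⟩ := Algebra.FiniteType.iff_quotient_mvPolynomial''.1 (inferInstance : Algebra.FiniteType R S)
  obtain ⟨j, hj, hj'⟩ := exists_finset_fibre_span p (RingHom.ker π)
  let I : Ideal (MvPolynomial (Fin n) R) := Ideal.span (j : Set _)
  let T := MvPolynomial (Fin n) R ⧸ I
  have : Algebra.FinitePresentation R T := Algebra.FinitePresentation.quotient ⟨j, rfl⟩
  let πT : T →ₐ[R] S := Ideal.Quotient.liftₐ I π fun a ha => Ideal.span_le.2 hj ha
  have hπT : Surjective πT := fun s => by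
    obtain ⟨x, rfl⟩ := hπ s
    exact ⟨Ideal.Quotient.mk I x, rfl⟩
  let : Algebra T S := πT.toRingHom.toAlgebra
  let : Algebra T S' := ((algebraMap S S').comp πT.toRingHom).toAlgebra
  have : IsScalarTower R T S := IsScalarTower.of_algebraMap_eq fun x => (πT.commutes x).symm
  have : IsScalarTower T S S' := IsScalarTower.of_algebraMap_eq fun _ => rfl
  have : IsScalarTower R T S' := ⟨fun r t z => by
    change algebraMap S S' (πT (r • t)) * z = r • (algebraMap S S' (πT t) * z)
    rw [map_smul, Algebra.smul_def, map_mul, ← IsScalarTower.algebraMap_apply R S S', mul_assoc, ← Algebra.smul_def]⟩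
  let : Module T M := Module.compHom M (algebraMap T S')
  have : IsScalarTower T S' M := IsScalarTower.of_compHom T S' M
  have : IsScalarTower T S N := IsScalarTower.of_algebraMap_smul fun t z => by
    rw [← algebraMap_smul S' (algebraMap T S t) z, ← IsScalarTower.algebraMap_apply T S S', algebraMap_smul]
  -- kernel elements act trivially on the fibre
  have hkill : ∀ t : T, algebraMap T S t = 0 → ∃ c ∉ p, algebraMap R T c * t ∈ p.map (algebraMap R T) := by
    intro t ht
    obtain ⟨k, rfl⟩ := Ideal.Quotient.mk_surjective t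
    obtain ⟨c, hc, h⟩ := hj' k ht
    refine ⟨c, hc, ?_⟩
    have := Ideal.mem_map_of_mem (Ideal.Quotient.mk I) h
    rw [Ideal.map_sup, Ideal.map_quotient_self, bot_sup_eq, Ideal.map_map, map_mul] at this
    exact this
  have hfib' : RelFlat R p T N := by
    intro X Y _ _ _ _ f hX hY hf
    let W := S ⊗[T] X
    let W' := S ⊗[T] Y
    let fW : W →ₗ[S] W' := TensorProduct.AlgebraTensorModule.lTensor S S f
    have hWkill : ∀ (V : Type u) [AddCommGroup V] [Module T V],
        (∀ r ∈ p, ∀ v : V, algebraMap R T r • v = 0) → ∀ r ∈ p, ∀ w : S ⊗[T] V, algebraMap R S r • w = 0 :=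
      fun V _ _ hV r hr w => by
        rw [IsScalarTower.algebraMap_apply R T S, algebraMap_smul]
        induction w using TensorProduct.induction_on with
        | zero => exact smul_zero _
        | add a b ha hb => rw [smul_add, ha, hb, add_zero]
        | tmul a b => rw [TensorProduct.smul_tmul', TensorProduct.smul_tmul, hV r hr, TensorProduct.tmul_zero]
    have hunit : ∀ c ∉ p, Function.Bijective fun z : N => algebraMap R S c • z := fun c hc => by
      have h := IsLocalizedModule.map_units (LocalizedModule.mkLinearMap q.primeCompl M)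
        (⟨algebraMap R S' c, hc⟩ : q.primeCompl)
      rw [Module.End.isUnit_iff] at h
      convert h using 1
      ext z
      change algebraMap R S c • z = algebraMap R S' c • z
      rw [IsScalarTower.algebraMap_apply R S S']
      exact (algebraMap_smul S' (algebraMap R S c) z).symm
    have htor : ∀ t, algebraMap T S t = 0 → ∃ c ∉ p, ∀ y : Y, algebraMap R T c • t • y = 0 := by
      intro t ht
      obtain ⟨c, hc, h⟩ := hkill t ht
      refine ⟨c, hc, fun y => ?_⟩
      rw [smul_smul]
      have hle : p.map (algebraMap R T) ≤ LinearMap.ker (LinearMap.toSpanSingleton T Y y) :=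
        Ideal.map_le_iff_le_comap.2 fun r hr => hY r hr y
      exact hle h
    have hker : ∀ w : W, fW w = 0 → ∃ c ∉ p, algebraMap R S c • w = 0 := by
      intro w hw
      obtain ⟨x, rfl⟩ := TensorProduct.mk_surjective T X S hπT w
      let K := RingHom.ker (algebraMap T S)
      obtain ⟨ξ, hξ⟩ : ∃ ξ : K ⊗[T] Y, K.subtype.rTensor Y ξ = (1 : T) ⊗ₜ[T] f x := by
        refine ((rTensor_exact Y (g := Algebra.linearMap T S) (f := K.subtype) ?_ hπT) _).1 ?_
        · rw [LinearMap.exact_iff, Submodule.range_subtype]
          rfl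
        · rw [LinearMap.rTensor_tmul, Algebra.linearMap_apply, map_one]
          exact hw
      have key : ∀ ξ : K ⊗[T] Y, ∃ c ∉ p, algebraMap R T c • TensorProduct.lid T Y (K.subtype.rTensor Y ξ) = 0 := by
        intro ξ
        induction ξ with
        | zero => exact ⟨1, fun h => ‹q.IsPrime›.ne_top ((Ideal.eq_top_iff_one q).2 (by simpa [p] using h)), by simp⟩
        | tmul t y =>
          obtain ⟨c, hc, h⟩ := htor t.1 t.2
          exact ⟨c, hc, by simpa using h y⟩
        | add a b ha hb =>
          obtain ⟨c, hc, ha⟩ := ha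
          obtain ⟨d, hd, hb⟩ := hb
          refine ⟨c * d, fun h => ((q.comap_isPrime (algebraMap R S')).mem_or_mem h).elim hc hd, ?_⟩
          rw [map_add, map_add, smul_add, map_mul, mul_comm, mul_smul, ha, smul_zero, mul_comm, mul_smul, hb,
            smul_zero, add_zero]
      obtain ⟨c, hc, h⟩ := key ξ
      rw [hξ, TensorProduct.lid_tmul, one_smul, ← map_smul] at h
      refine ⟨c, hc, ?_⟩
      rw [IsScalarTower.algebraMap_apply R T S, algebraMap_smul, ← map_smul, hf (h.trans (map_zero f).symm),
        map_zero]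
    have hinj := hfib.injective_of_torsion hunit (X := W) (Y := W') fW (hWkill X hX) (hWkill Y hY) hker
    let e := fun (V : Type u) [AddCommGroup V] [Module T V] =>
      (TensorProduct.AlgebraTensorModule.cancelBaseChange T S S N V).restrictScalars T
    have hnat : ∀ z, f.lTensor N (e X z) = e Y (fW.lTensor N z) := by
      intro z
      induction z with
      | zero => simp
      | add a b ha hb => simp only [map_add, ha, hb]
      | tmul a b =>
        induction b with
        | zero => simp
        | add b b' hb hb' => simp only [TensorProduct.tmul_add, map_add, hb, hb']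
        | tmul s v =>
          rw [show fW.lTensor N (a ⊗ₜ[S] (s ⊗ₜ[T] v)) = a ⊗ₜ[S] (s ⊗ₜ[T] f v) from rfl]
          simp [e]
    intro z z' hzz
    obtain ⟨z, rfl⟩ := (e X).surjective z
    obtain ⟨z', rfl⟩ := (e X).surjective z'
    rw [hnat, hnat] at hzz
    exact congrArg _ (hinj ((e Y).injective hzz))
  have hflT : Module.Flat T N := flat_of_relFlat_of_finitePresentation (R := R) q hfib'
  have hflS : Module.Flat S N := flat_of_flat_of_surjective hπT
  refine ⟨hflS, flat_localized_source_of_flat (M := M) hπT q⟩

end Groth.Agent.FlatLocus
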