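import Groth.Prelude.Def_MoreMor
import Groth.Agent.FlatLocus.General
import Groth.Agent.GrpSch.FlatPoint
import Groth.Agent.Unram.Pointwise

/-!
# The fibrewise criterion of flatness for schemes
-/

set_option autoImplicit false
set_option backward.isDefEq.respectTransparency false

universe u

open CategoryTheory Limits AlgebraicGeometry
open scoped TensorProduct

namespace Groth.Agent.FlatLocus

attribute [local instance] Algebra.TensorProduct.rightAlgebra

/-- The fibrewise flatness hypothesis from flatness of the fibre rings at a prime. -/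
theorem relFlat_of_fibre_flat {A B C : Type u} [CommRing A] [CommRing B] [CommRing C] [Algebra A B] [Algebra B C]
    [Algebra A C] [IsScalarTower A B C] (q : Ideal C) [q.IsPrime] (p : Ideal A) [p.IsPrime]
    (qk : Ideal (p.ResidueField ⊗[A] C)) [qk.IsPrime] (hqk : qk.comap (algebraMap C (p.ResidueField ⊗[A] C)) = q)
    [Algebra (p.ResidueField ⊗[A] B) (p.ResidueField ⊗[A] C)] [Algebra B (p.ResidueField ⊗[A] C)]
    [IsScalarTower B C (p.ResidueField ⊗[A] C)] [IsScalarTower B (p.ResidueField ⊗[A] B) (p.ResidueField ⊗[A] C)]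
    [IsScalarTower p.ResidueField (p.ResidueField ⊗[A] B) (p.ResidueField ⊗[A] C)]
    (h : Module.Flat (p.ResidueField ⊗[A] B) (Localization.AtPrime qk)) :
    RelFlat A p B (LocalizedModule q.primeCompl C) := by
  let k := p.ResidueField
  let S := k ⊗[A] B
  let C' := k ⊗[A] C
  have : Module.Flat S (Localization.AtPrime qk) := h
  have : Module.Flat S (LocalizedModule qk.primeCompl C') :=
    (Module.Flat.equiv_iff ((IsLocalizedModule.linearEquiv qk.primeCompl
      (LocalizedModule.mkLinearMap qk.primeCompl C') (Algebra.linearMap C' (Localization.AtPrime qk))).restrictScalars S)).2 ‹_›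
  have : Module.Flat S (Loc C C qk) := flat_localized_congr (TensorProduct.AlgebraTensorModule.rid C C' C').symm _
  have hbot : qk.comap (algebraMap k C') = ⊥ := by
    rcases Ideal.eq_bot_or_top (qk.comap (algebraMap k C')) with h' | h'
    · exact h'
    · exact absurd h' (Ideal.IsPrime.comap (algebraMap k C')).ne_top
  have hdesc := relFlat_descend (R₀ := A) (R := k) (S₀ := B) (S := S) (C₀ := C) (C := C') (M₀ := C) qk ⊥ hbot q hqk
    fun X Y _ _ _ _ f _ _ hf => Module.Flat.lTensor_preserves_injective_linearMap f hf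
  have hker : (⊥ : Ideal k).comap (algebraMap A k) = p := Ideal.ker_algebraMap_residueField p
  intro X Y _ _ _ _ f hX hY hf
  exact hdesc f (fun r hr => hX r (hker.le hr)) (fun r hr => hY r (hker.le hr)) hf

/-- The map of fibres is a base change. -/
theorem isPullback_fiberMap {X Y S : Scheme.{u}} (f : X ⟶ Y) (g : Y ⟶ S) (s : S) :
    IsPullback ((f ≫ g).fiberι s) (MoreMor.fiberMap f g s) f (g.fiberι s) := by
  have e1 : MoreMor.fiberMap f g s ≫ g.fiberι s = (f ≫ g).fiberι s ≫ f := pullback.lift_fst _ _ _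
  have e2 : MoreMor.fiberMap f g s ≫ g.fiberToSpecResidueField s = (f ≫ g).fiberToSpecResidueField s :=
    pullback.lift_snd _ _ _
  refine IsPullback.of_bot ?_ e1.symm (IsPullback.of_hasPullback g (S.fromSpecResidueField s))
  rw [show MoreMor.fiberMap f g s ≫ pullback.snd g (S.fromSpecResidueField s) = (f ≫ g).fiberToSpecResidueField s
    from e2]
  exact IsPullback.of_hasPullback (f ≫ g) _

/-- A flat morphism at a point is flat on the fibre. -/
theorem flat_fiberMap_of_flat {X Y S : Scheme.{u}} (f : X ⟶ Y) (g : Y ⟶ S) (x : X)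
    (h : (f.stalkMap x).hom.Flat) :
    ((MoreMor.fiberMap f g (g (f x))).stalkMap ((f ≫ g).asFiber x)).hom.Flat := by
  refine GrpSch.flat_stalkMap_of_isPullback (isPullback_fiberMap f g _) _ ?_
  have hx : (f ≫ g).fiberι (g (f x)) ((f ≫ g).asFiber x) = x := (f ≫ g).fiberι_asFiber x
  rw [hx]
  exact h

/-- Flatness on the fibre survives base change into the fibre. -/
theorem flat_snd_of_flat_fiberMap {X Y S : Scheme.{u}} (f : X ⟶ Y) (g : Y ⟶ S) {s : S}
    (xs : ↥((f ≫ g).fiber s)) (hfib : ((MoreMor.fiberMap f g s).stalkMap xs).hom.Flat)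
    {T : Scheme.{u}} (ρ : T ⟶ g.fiber s) (ρ₀ : T ⟶ Y) (hρ : ρ ≫ g.fiberι s = ρ₀)
    (w : ↑(pullback f ρ₀)) (hw : pullback.fst f ρ₀ w = (f ≫ g).fiberι s xs) :
    ((pullback.snd f ρ₀).stalkMap w).hom.Flat := by
  subst hρ
  let v : pullback f (ρ ≫ g.fiberι s) ⟶ (f ≫ g).fiber s :=
    (isPullback_fiberMap f g s).lift (pullback.fst f _) (pullback.snd f _ ≫ ρ)
      (by rw [pullback.condition, Category.assoc])
  have hsq : IsPullback v (pullback.snd f (ρ ≫ g.fiberι s)) (MoreMor.fiberMap f g s) ρ := by
    refine IsPullback.of_right ?_ ((isPullback_fiberMap f g s).lift_snd _ _ _) (isPullback_fiberMap f g s)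
    rw [IsPullback.lift_fst]
    exact IsPullback.of_hasPullback f _
  refine GrpSch.flat_stalkMap_of_isPullback hsq w ?_
  have : v w = xs := by
    apply ((f ≫ g).fiberι s).isEmbedding.injective
    rw [← Scheme.Hom.comp_apply, IsPullback.lift_fst]
    exact hw
  rw [this]
  exact hfib

set_option maxHeartbeats 800000 in
/-- **Critère de platitude par fibres** at a point. -/
theorem flat_of_flat_fiberMap {X Y S : Scheme.{u}} (f : X ⟶ Y) (g : Y ⟶ S) [LocallyOfFinitePresentation (f ≫ g)]
    [LocallyOfFiniteType g] (x : X) (hflat : ((f ≫ g).stalkMap x).hom.Flat)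
    (hfib : ((MoreMor.fiberMap f g (g (f x))).stalkMap ((f ≫ g).asFiber x)).hom.Flat) :
    (g.stalkMap (f x)).hom.Flat ∧ (f.stalkMap x).hom.Flat := by
  obtain ⟨A, B, C, _, _, _, _, _, _, _, jS, jY, jX, q, _, _, _, e₁, e₂, e₃, hq⟩ :=
    Unram.exists_affine_tower f g x
  have : Algebra.FiniteType A B := Unram.finiteType_of_affine g jS jY e₂
  have : Algebra.FinitePresentation A C := Unram.finitePresentation_of_affine (f ≫ g) jS jX e₃
  let p := q.asIdeal.comap (algebraMap A C)
  let k := p.ResidueField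
  let S' := k ⊗[A] B
  let C' := k ⊗[A] C
  let τ := Algebra.TensorProduct.map (AlgHom.id k k) (IsScalarTower.toAlgHom A B C)
  let : Algebra S' C' := τ.toRingHom.toAlgebra
  let : Algebra B C' := ((algebraMap C C').comp (algebraMap B C)).toAlgebra
  have : IsScalarTower B C C' := IsScalarTower.of_algebraMap_eq fun _ => rfl
  have : IsScalarTower B S' C' := IsScalarTower.of_algebraMap_eq fun b => by
    change (1 : k) ⊗ₜ[A] algebraMap B C b = τ ((1 : k) ⊗ₜ[A] b)
    rfl
  have : IsScalarTower k S' C' := IsScalarTower.of_algebraMap_eq fun x => by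
    change (x : k) ⊗ₜ[A] (1 : C) = τ (x ⊗ₜ[A] (1 : B))
    simp [τ]
  have : IsScalarTower A S' C' := IsScalarTower.of_algebraMap_eq fun a => by
    change algebraMap A k a ⊗ₜ[A] (1 : C) = τ (algebraMap A k a ⊗ₜ[A] (1 : B))
    simp [τ]
  have : Algebra.IsPushout A k B S' := inferInstance
  have : Algebra.IsPushout B S' C C' := Algebra.IsPushout.symm
    ((Algebra.IsPushout.comp_iff (R := A) (S := B) (R' := k) (S' := S') (T := C) (T' := C')).1
      (Algebra.IsPushout.symm inferInstance))
  -- the point of the chart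
  let qA : PrimeSpectrum A := ⟨p, inferInstance⟩
  obtain ⟨qk', hqk⟩ : ∃ qk' : PrimeSpectrum C', PrimeSpectrum.comap (algebraMap C C') qk' = q := by
    exact ⟨PrimeSpectrum.preimageEquivFiber A C qA ⟨q, rfl⟩,
      congrArg Subtype.val ((PrimeSpectrum.preimageEquivFiber A C qA).symm_apply_apply ⟨q, rfl⟩)⟩
  let z : ↥(Spec (.of S')) := (Spec.map (CommRingCat.ofHom τ.toRingHom)) qk'
  have hz : Spec.map (CommRingCat.ofHom τ.toRingHom) ≫ Spec.map (CommRingCat.ofHom (algebraMap B S')) =
      Spec.map (CommRingCat.ofHom (algebraMap C C')) ≫ Spec.map (CommRingCat.ofHom (algebraMap B C)) := by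
    rw [← Spec.map_comp, ← Spec.map_comp]
    congr 1
  have hρ₀ : g ((Spec.map (CommRingCat.ofHom (algebraMap B S')) ≫ jY) z) = g (f x) := by
    congr 1
    rw [← hq]
    have h1 : (Spec.map (CommRingCat.ofHom τ.toRingHom) ≫ Spec.map (CommRingCat.ofHom (algebraMap B S')) ≫ jY) qk' =
        (Spec.map (CommRingCat.ofHom (algebraMap C C')) ≫ jX ≫ f) qk' := by
      rw [e₁, ← Category.assoc, hz, Category.assoc]
    exact h1.trans (congrArg (jX ≫ f) hqk)
  let χ : Spec (.of k) ⟶ S := Spec.map (CommRingCat.ofHom (algebraMap A k)) ≫ jS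
  have hsnd : ∀ z : ↥(Spec (.of S')), Spec.map (CommRingCat.ofHom (algebraMap k S')) z = IsLocalRing.closedPoint k :=
    fun z => Subsingleton.elim _ _
  have hw₁ : (Spec.map (CommRingCat.ofHom (algebraMap B S')) ≫ jY) ≫ g =
      Spec.map (CommRingCat.ofHom (algebraMap k S')) ≫ χ := by
    rw [Category.assoc, e₂, ← Category.assoc, ← Category.assoc]
    congr 1
    rw [← Spec.map_comp, ← Spec.map_comp]
    congr 1
    ext a
    exact ((IsScalarTower.algebraMap_apply A B S' a).symm.trans (IsScalarTower.algebraMap_apply A k S' a))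
  have hs : χ (IsLocalRing.closedPoint k) = g (f x) := by
    rw [← hsnd z, ← Scheme.Hom.comp_apply, ← hw₁, Scheme.Hom.comp_apply]
    exact hρ₀
  obtain ⟨κ, hκ⟩ : ∃ κ : Spec (.of k) ⟶ Spec (S.residueField (g (f x))), κ ≫ S.fromSpecResidueField _ = χ :=
    hs ▸ ⟨_, Scheme.descResidueField_stalkClosedPointTo_fromSpecResidueField k S χ⟩
  let ρ : Spec (.of S') ⟶ g.fiber (g (f x)) := pullback.lift (Spec.map (CommRingCat.ofHom (algebraMap B S')) ≫ jY)
    (Spec.map (CommRingCat.ofHom (algebraMap k S')) ≫ κ) (by rw [hw₁, Category.assoc, hκ])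
  let ρ₀ : Spec (.of S') ⟶ Y := Spec.map (CommRingCat.ofHom (algebraMap B S')) ≫ jY
  have hρ : ρ ≫ g.fiberι _ = ρ₀ := pullback.lift_fst _ _ _
  -- the affine piece of the base change
  have hpb : IsPullback (Spec.map (CommRingCat.ofHom (algebraMap C C'))) (Spec.map (CommRingCat.ofHom τ.toRingHom))
      (Spec.map (CommRingCat.ofHom (algebraMap B C))) (Spec.map (CommRingCat.ofHom (algebraMap B S'))) :=
    (isPullback_SpecMap_of_isPushout _ _ _ _ (CommRingCat.isPushout_iff_isPushout.mpr
      (inferInstance : Algebra.IsPushout B S' C C'))).flip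
  let m : pullback (Spec.map (CommRingCat.ofHom (algebraMap B C))) (Spec.map (CommRingCat.ofHom (algebraMap B S'))) ⟶
      pullback f ρ₀ :=
    pullback.map _ _ f ρ₀ jX (𝟙 _) jY e₁.symm (Category.id_comp _).symm
  have : IsOpenImmersion m := inferInstanceAs (IsOpenImmersion (pullback.map ..))
  let u : Spec (.of C') ⟶ pullback f ρ₀ := hpb.isoPullback.hom ≫ m
  have hu₁ : u ≫ pullback.fst f ρ₀ = Spec.map (CommRingCat.ofHom (algebraMap C C')) ≫ jX := by
    simp only [u, m, Category.assoc]
    rw [pullback.lift_fst, ← Category.assoc, IsPullback.isoPullback_hom_fst]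
  have hu₂ : u ≫ pullback.snd f ρ₀ = Spec.map (CommRingCat.ofHom τ.toRingHom) := by
    simp only [u, m, Category.assoc]
    rw [pullback.lift_snd, ← Category.assoc, IsPullback.isoPullback_hom_snd, Category.comp_id]
  have hsndflat := flat_snd_of_flat_fiberMap f g _ hfib ρ ρ₀ hρ (u qk') (by
    rw [← Scheme.Hom.comp_apply, hu₁, Scheme.Hom.comp_apply]
    refine Eq.trans ?_ ((f ≫ g).fiberι_asFiber x).symm
    rw [← hq]
    exact congrArg jX hqk)
  rw [Unram.stalkMap_iff_of_comm (P := fun f => f.Flat) RingHom.Flat.respectsIso (pullback.snd f ρ₀)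
    (Spec.map (CommRingCat.ofHom (algebraMap S' C'))) u (𝟙 _) (by rw [Category.comp_id]; exact hu₂) qk',
    Unram.flat_stalkMap_SpecMap_iff] at hsndflat
  have hrel := relFlat_of_fibre_flat q.asIdeal p qk'.asIdeal (congrArg PrimeSpectrum.asIdeal hqk) hsndflat
  -- flatness over `A`
  rw [← hq, Unram.stalkMap_iff_of_comm (P := fun f => f.Flat) RingHom.Flat.respectsIso (f ≫ g)
    (Spec.map (CommRingCat.ofHom (algebraMap A C))) jX jS e₃ q, Unram.flat_stalkMap_SpecMap_iff] at hflat
  let eC := IsLocalizedModule.linearEquiv q.asIdeal.primeCompl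
    (LocalizedModule.mkLinearMap q.asIdeal.primeCompl C) (Algebra.linearMap C (Localization.AtPrime q.asIdeal))
  have : Module.Flat A (LocalizedModule q.asIdeal.primeCompl C) :=
    (Module.Flat.equiv_iff (eC.restrictScalars A)).2 hflat
  have : Nontrivial (LocalizedModule q.asIdeal.primeCompl C) := eC.toEquiv.nontrivial
  obtain ⟨h1, h2⟩ := fibre_criterion (R := A) (S := B) (S' := C) (M := C) q.asIdeal hrel
  constructor
  · have hfx : f x = jY ((Spec.map (CommRingCat.ofHom (algebraMap B C))) q) := by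
      rw [← hq]
      exact congr($(e₁) q)
    rw [hfx, Unram.stalkMap_iff_of_comm (P := fun f => f.Flat) RingHom.Flat.respectsIso g
        (Spec.map (CommRingCat.ofHom (algebraMap A B))) jY jS e₂, Unram.flat_stalkMap_SpecMap_iff]
    exact (Module.Flat.equiv_iff ((IsLocalizedModule.linearEquiv (q.asIdeal.comap (algebraMap B C)).primeCompl
      (LocalizedModule.mkLinearMap (q.asIdeal.comap (algebraMap B C)).primeCompl B)
      (Algebra.linearMap B (Localization.AtPrime (q.asIdeal.comap (algebraMap B C))))).restrictScalars A)).1 h2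
  · rw [← hq, Unram.stalkMap_iff_of_comm (P := fun f => f.Flat) RingHom.Flat.respectsIso f
        (Spec.map (CommRingCat.ofHom (algebraMap B C))) jX jY e₁, Unram.flat_stalkMap_SpecMap_iff]
    exact (Module.Flat.equiv_iff (eC.restrictScalars B)).1 h1

/-- Cancellation for morphisms locally of finite presentation. -/
theorem locallyOfFinitePresentation_of_comp {X Y S : Scheme.{u}} (f : X ⟶ Y) (g : Y ⟶ S)
    [hfg : LocallyOfFinitePresentation (f ≫ g)] [hg : LocallyOfFiniteType g] :
    LocallyOfFinitePresentation f := by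
  wlog hZ : IsAffine S generalizing X Y S
  · rw [IsZariskiLocalAtTarget.iff_of_iSup_eq_top (P := @LocallyOfFinitePresentation) _
      (g.iSup_preimage_eq_top (iSup_affineOpens_eq_top S))]
    intro U
    have H := IsZariskiLocalAtTarget.restrict hfg U.1
    rw [morphismRestrict_comp] at H
    exact this _ (g ∣_ U.1) (hfg := H) (hg := IsZariskiLocalAtTarget.restrict hg U.1) inferInstance
  wlog hY : IsAffine Y generalizing X Y
  · rw [IsZariskiLocalAtTarget.iff_of_iSup_eq_top (P := @LocallyOfFinitePresentation) _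
      (iSup_affineOpens_eq_top Y)]
    intro U
    have H := HasRingHomProperty.comp_of_isOpenImmersion @LocallyOfFinitePresentation
      (f ⁻¹ᵁ U.1).ι (f ≫ g) hfg
    rw [← morphismRestrict_ι_assoc] at H
    exact this _ (U.1.ι ≫ g) (hfg := H)
      (hg := HasRingHomProperty.comp_of_isOpenImmersion @LocallyOfFiniteType _ g hg) inferInstance
  wlog hX : IsAffine X generalizing X
  · rw [IsZariskiLocalAtSource.iff_of_iSup_eq_top (P := @LocallyOfFinitePresentation) _
      (iSup_affineOpens_eq_top X)]
    intro U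
    have H := HasRingHomProperty.comp_of_isOpenImmersion @LocallyOfFinitePresentation U.1.ι (f ≫ g) hfg
    rw [← Category.assoc] at H
    exact this _ (hfg := H) inferInstance
  rw [HasRingHomProperty.iff_of_isAffine (P := @LocallyOfFinitePresentation)] at hfg ⊢
  rw [HasRingHomProperty.iff_of_isAffine (P := @LocallyOfFiniteType)] at hg
  exact RingHom.FinitePresentation.of_comp_finiteType _ hfg hg

end Groth.Agent.FlatLocus
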