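import Mathlib.RingTheory.Flat.Localization
import Mathlib.RingTheory.IsTensorProduct
import Mathlib.RingTheory.Localization.BaseChange
import Mathlib.RingTheory.Localization.AtPrime.Basic
import Mathlib.Algebra.Module.LocalizedModule.Basic
import Mathlib.RingTheory.OreLocalization.Basic

/-!
# Flatness of localizations of base changed modules

For a pushout square `R → R'`, `C₀ → C'` and a `C₀`-module `M₀`, we compare `M₀ ⊗[R] W` with
`(C' ⊗[C₀] M₀) ⊗[R'] W`.
-/

set_option autoImplicit false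
set_option backward.isDefEq.respectTransparency false

universe u

open scoped TensorProduct
open LinearMap Function

namespace Groth.Agent.FlatLocus

variable {R : Type u} [CommRing R] {C₀ : Type u} [CommRing C₀] [Algebra R C₀]
  {M₀ : Type u} [AddCommGroup M₀] [Module C₀ M₀] [Module R M₀] [IsScalarTower R C₀ M₀]
  {R' C' : Type u} [CommRing R'] [CommRing C'] [Algebra R R'] [Algebra R C'] [Algebra C₀ C'] [Algebra R' C']
  [IsScalarTower R R' C'] [IsScalarTower R C₀ C'] [Algebra.IsPushout R R' C₀ C']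

variable (R C₀ M₀ R' C') in
/-- `(C' ⊗[C₀] M₀) ⊗[R'] W ≃ M₀ ⊗[R] W`. -/
noncomputable def bcEquiv (W : Type u) [AddCommGroup W] [Module R W] [Module R' W] [IsScalarTower R R' W] :
    (C' ⊗[C₀] M₀) ⊗[R'] W ≃+ M₀ ⊗[R] W :=
  (TensorProduct.congr (Algebra.IsPushout.cancelBaseChange R R' C₀ C' M₀) (LinearEquiv.refl R' W) ≪≫ₗ
      TensorProduct.comm R' (R' ⊗[R] M₀) W ≪≫ₗ
      TensorProduct.AlgebraTensorModule.cancelBaseChange R R' R' W M₀).toAddEquiv.trans
    (TensorProduct.comm R W M₀).toAddEquiv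

theorem bcEquiv_tmul {W : Type u} [AddCommGroup W] [Module R W] [Module R' W] [IsScalarTower R R' W]
    (m : M₀) (w : W) :
    bcEquiv R C₀ M₀ R' C' W ((1 ⊗ₜ[C₀] m) ⊗ₜ[R'] w) = m ⊗ₜ[R] w := by
  simp [bcEquiv, Algebra.IsPushout.cancelBaseChange_tmul]

theorem bcEquiv_symm_tmul {W : Type u} [AddCommGroup W] [Module R W] [Module R' W] [IsScalarTower R R' W]
    (m : M₀) (w : W) :
    (bcEquiv R C₀ M₀ R' C' W).symm (m ⊗ₜ[R] w) = (1 ⊗ₜ[C₀] m) ⊗ₜ[R'] w := by
  rw [AddEquiv.symm_apply_eq, bcEquiv_tmul]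

theorem bcEquiv_symm_smul {W : Type u} [AddCommGroup W] [Module R W] [Module R' W] [IsScalarTower R R' W]
    (c : C₀) (z : M₀ ⊗[R] W) :
    (bcEquiv R C₀ M₀ R' C' W).symm (c • z) =
      algebraMap C₀ C' c • (bcEquiv R C₀ M₀ R' C' W).symm z := by
  induction z with
  | zero => rw [smul_zero, map_zero, smul_zero]
  | add a b ha hb => rw [smul_add, map_add, map_add, ha, hb, smul_add]
  | tmul m w =>
    rw [TensorProduct.smul_tmul', bcEquiv_symm_tmul, bcEquiv_symm_tmul, TensorProduct.smul_tmul',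
      TensorProduct.smul_tmul' (algebraMap C₀ C' c), smul_eq_mul, mul_one]
    congr 1
    rw [Algebra.algebraMap_eq_smul_one, TensorProduct.smul_tmul]

theorem bcEquiv_symm_natural {W W' : Type u} [AddCommGroup W] [Module R W] [Module R' W] [IsScalarTower R R' W]
    [AddCommGroup W'] [Module R W'] [Module R' W'] [IsScalarTower R R' W'] (f : W →ₗ[R'] W') (z : M₀ ⊗[R] W) :
    f.lTensor (C' ⊗[C₀] M₀) ((bcEquiv R C₀ M₀ R' C' W).symm z) =
      (bcEquiv R C₀ M₀ R' C' W').symm ((f.restrictScalars R).lTensor M₀ z) := by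
  induction z with
  | zero => simp only [map_zero]
  | add a b ha hb => simp only [map_add, ha, hb]
  | tmul m w => simp [bcEquiv_symm_tmul]

variable (C₀ M₀) in
/-- The localization of `M₀ ⊗ R'` at a prime of `C'`. -/
abbrev Loc (q : Ideal C') [q.IsPrime] : Type u := LocalizedModule q.primeCompl (C' ⊗[C₀] M₀)

noncomputable instance locTensorAddCommGroup (q : Ideal C') [q.IsPrime] (W : Type u) [AddCommGroup W]
    [Module R' W] : AddCommGroup (Loc C₀ M₀ q ⊗[R'] W) :=
  Module.addCommMonoidToAddCommGroup R'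

variable (R C₀ M₀ R') in
/-- `M₀ ⊗[R] W → (C' ⊗[C₀] M₀)_q ⊗[R'] W`. -/
noncomputable def locMap (q : Ideal C') [q.IsPrime] (W : Type u) [AddCommGroup W] [Module R W] [Module R' W]
    [IsScalarTower R R' W] : M₀ ⊗[R] W →+ Loc C₀ M₀ q ⊗[R'] W :=
  ((TensorProduct.AlgebraTensorModule.rTensor R' W
    (LocalizedModule.mkLinearMap q.primeCompl (C' ⊗[C₀] M₀))).toAddMonoidHom).comp
    (bcEquiv R C₀ M₀ R' C' W).symm.toAddMonoidHom

theorem locMap_tmul (q : Ideal C') [q.IsPrime] {W : Type u} [AddCommGroup W] [Module R W] [Module R' W]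
    [IsScalarTower R R' W] (m : M₀) (w : W) :
    locMap R C₀ M₀ R' q W (m ⊗ₜ[R] w) =
      LocalizedModule.mkLinearMap q.primeCompl (C' ⊗[C₀] M₀) (1 ⊗ₜ[C₀] m) ⊗ₜ[R'] w := by
  simp [locMap, bcEquiv_symm_tmul]

theorem locMap_smul (q : Ideal C') [q.IsPrime] {W : Type u} [AddCommGroup W] [Module R W] [Module R' W]
    [IsScalarTower R R' W] (c : C₀) (z : M₀ ⊗[R] W) :
    locMap R C₀ M₀ R' q W (c • z) = algebraMap C₀ C' c • locMap R C₀ M₀ R' q W z := by
  simp only [locMap, AddMonoidHom.coe_comp, Function.comp_apply, AddEquiv.coe_toAddMonoidHom,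
    bcEquiv_symm_smul, LinearMap.toAddMonoidHom_coe]
  exact map_smul _ _ _

theorem locMap_natural (q : Ideal C') [q.IsPrime] {W W' : Type u} [AddCommGroup W] [Module R W] [Module R' W]
    [IsScalarTower R R' W] [AddCommGroup W'] [Module R W'] [Module R' W'] [IsScalarTower R R' W']
    (f : W →ₗ[R'] W') (z : M₀ ⊗[R] W) :
    f.lTensor (Loc C₀ M₀ q) (locMap R C₀ M₀ R' q W z) = locMap R C₀ M₀ R' q W' ((f.restrictScalars R).lTensor M₀ z) := by
  induction z with
  | zero => simp only [map_zero]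
  | add a b ha hb => simp only [map_add, ha, hb]
  | tmul m w => simp [locMap_tmul]

/-- The localized base change is exact on `f` once it kills the kernel of `M₀ ⊗ f`. -/
theorem lTensor_loc_injective (q : Ideal C') [q.IsPrime]
    {W W' : Type u} [AddCommGroup W] [Module R W] [Module R' W] [IsScalarTower R R' W]
    [AddCommGroup W'] [Module R W'] [Module R' W'] [IsScalarTower R R' W'] (f : W →ₗ[R'] W')
    (h : ∀ z : M₀ ⊗[R] W, (f.restrictScalars R).lTensor M₀ z = 0 → locMap R C₀ M₀ R' q W z = 0) :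
    Injective (f.lTensor (Loc C₀ M₀ q)) := by
  let g := LocalizedModule.mkLinearMap q.primeCompl (C' ⊗[C₀] M₀)
  let gW := TensorProduct.AlgebraTensorModule.rTensor R' W g
  let gW' := TensorProduct.AlgebraTensorModule.rTensor R' W' g
  have : IsLocalizedModule q.primeCompl gW := inferInstance
  have : IsLocalizedModule q.primeCompl gW' := inferInstance
  let fC : (C' ⊗[C₀] M₀) ⊗[R'] W →ₗ[C'] (C' ⊗[C₀] M₀) ⊗[R'] W' :=
    TensorProduct.AlgebraTensorModule.lTensor C' (C' ⊗[C₀] M₀) f
  let fL : Loc C₀ M₀ q ⊗[R'] W →ₗ[C'] Loc C₀ M₀ q ⊗[R'] W' :=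
    TensorProduct.AlgebraTensorModule.lTensor C' (Loc C₀ M₀ q) f
  have hgf : ∀ z, fL (gW z) = gW' (fC z) := by
    intro z
    induction z with
    | zero => simp
    | add a b ha hb => simp only [map_add, ha, hb]
    | tmul a b => simp [fL, fC, gW, gW', g]
  rw [injective_iff_map_eq_zero]
  intro x hx
  obtain ⟨⟨z, s⟩, hz⟩ := IsLocalizedModule.surj q.primeCompl gW x
  have h0 : gW' (fC z) = 0 := by
    rw [← hgf, ← hz, Submonoid.smul_def, map_smul]
    change (s : C') • f.lTensor (Loc C₀ M₀ q) x = 0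
    rw [hx, smul_zero]
  obtain ⟨t, ht⟩ := (IsLocalizedModule.eq_zero_iff q.primeCompl gW').1 h0
  obtain ⟨y, hy⟩ := (bcEquiv R C₀ M₀ R' C' W).symm.surjective ((t : C') • z)
  have h1 : (f.restrictScalars R).lTensor M₀ y = 0 := by
    apply (bcEquiv R C₀ M₀ R' C' W').symm.injective
    rw [map_zero, ← bcEquiv_symm_natural, hy]
    change fC ((t : C') • z) = 0
    rw [map_smul, ← Submonoid.smul_def, ht]
  have h2 : gW ((t : C') • z) = 0 := by
    rw [← hy]
    exact h y h1
  apply IsLocalizedModule.smul_injective gW (t * s)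
  dsimp only
  rw [mul_smul, show s • x = gW z from hz, Submonoid.smul_def, ← map_smul, h2]
  exact (smul_zero _).symm

/-- Kernels killed by an element outside the prime vanish in the localization. -/
theorem locMap_eq_zero_of_map_smul (q : Ideal C') [q.IsPrime] {W : Type u} [AddCommGroup W] [Module R W]
    [Module R' W] [IsScalarTower R R' W] {z : M₀ ⊗[R] W} {t : C₀} (ht : algebraMap C₀ C' t ∉ q)
    (h : locMap R C₀ M₀ R' q W (t • z) = 0) : locMap R C₀ M₀ R' q W z = 0 := by
  rw [locMap_smul] at h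
  have : IsLocalizedModule q.primeCompl (TensorProduct.AlgebraTensorModule.rTensor R' W
      (LocalizedModule.mkLinearMap q.primeCompl (C' ⊗[C₀] M₀))) := inferInstance
  refine IsLocalizedModule.smul_injective (TensorProduct.AlgebraTensorModule.rTensor R' W
      (LocalizedModule.mkLinearMap q.primeCompl (C' ⊗[C₀] M₀))) (⟨_, ht⟩ : q.primeCompl) ?_
  dsimp only
  rw [smul_zero, Submonoid.smul_def]
  exact h

/-- Kernels killed by an element outside the prime vanish in the localization. -/
theorem locMap_eq_zero_of_smul (q : Ideal C') [q.IsPrime] {W : Type u} [AddCommGroup W] [Module R W]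
    [Module R' W] [IsScalarTower R R' W] {z : M₀ ⊗[R] W} {t : C₀} (ht : algebraMap C₀ C' t ∉ q)
    (h : t • z = 0) : locMap R C₀ M₀ R' q W z = 0 :=
  locMap_eq_zero_of_map_smul q ht (by rw [h, map_zero])

/-- Flatness at a prime is stable under base change. -/
theorem flat_loc_of_flat (q : Ideal C') [q.IsPrime] (q₀ : Ideal C₀) [q₀.IsPrime]
    (hq : q.comap (algebraMap C₀ C') ≤ q₀) [Module.Flat R (LocalizedModule q₀.primeCompl M₀)] :
    Module.Flat R' (Loc C₀ M₀ q) := by
  refine (Module.Flat.iff_lTensor_preserves_injective_linearMap (R := R') (M := Loc C₀ M₀ q)).mpr ?_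
  intro W W' _ _ _ _ f hf
  let : Module R W := Module.compHom W (algebraMap R R')
  have : IsScalarTower R R' W := IsScalarTower.of_compHom R R' W
  let : Module R W' := Module.compHom W' (algebraMap R R')
  have : IsScalarTower R R' W' := IsScalarTower.of_compHom R R' W'
  refine lTensor_loc_injective (R := R) q f fun z hz => ?_
  let g₀ := LocalizedModule.mkLinearMap q₀.primeCompl M₀
  have : IsLocalizedModule q₀.primeCompl (TensorProduct.AlgebraTensorModule.rTensor R W g₀) := inferInstance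
  have hnat : ∀ z : M₀ ⊗[R] W, (f.restrictScalars R).lTensor (LocalizedModule q₀.primeCompl M₀)
      (TensorProduct.AlgebraTensorModule.rTensor R W g₀ z) =
      TensorProduct.AlgebraTensorModule.rTensor R W' g₀ ((f.restrictScalars R).lTensor M₀ z) := by
    intro z
    induction z with
    | zero => simp
    | add a b ha hb => simp only [map_add, ha, hb]
    | tmul a b => simp [g₀]
  have h0 : TensorProduct.AlgebraTensorModule.rTensor R W g₀ z = 0 := by
    apply Module.Flat.lTensor_preserves_injective_linearMap (M := LocalizedModule q₀.primeCompl M₀)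
      (f.restrictScalars R) hf
    rw [hnat, hz, map_zero, map_zero]
  obtain ⟨t, ht⟩ := (IsLocalizedModule.eq_zero_iff q₀.primeCompl _).1 h0
  exact locMap_eq_zero_of_smul q (t := t) (fun h => t.2 (hq h)) ht

end Groth.Agent.FlatLocus
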