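import Groth.Agent.FlatLocus.Scheme
import Groth.Agent.FlatBasics.DeformFlat

/-!
# Deformations of flat, finitely presented morphisms along arbitrary thickenings
-/

set_option autoImplicit false
set_option backward.isDefEq.respectTransparency false

universe u

open CategoryTheory Limits AlgebraicGeometry

namespace Groth.Agent.FlatLocus

open Groth.Agent.FlatBasics

variable {X X' Y Y' S S' : Scheme.{u}} {iX : X ⟶ X'} {iY : Y ⟶ Y'} {iS : S ⟶ S'}
  {f : X ⟶ Y} {f' : X' ⟶ Y'} {g : Y ⟶ S} {g' : Y' ⟶ S'}

/-- Over a thickening the map of fibres only depends on the thin morphism. -/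
theorem flat_fiberMap_of_thickening [IsClosedImmersion iS] (hcX : IsPullback iX (f ≫ g) (f' ≫ g') iS)
    (hcY : IsPullback iY g g' iS) (w : iX ≫ f' = f ≫ iY) [Flat f] (s : S) :
    Flat (MoreMor.fiberMap f' g' (iS s)) := by
  have : IsIso (iS.residueFieldMap s) := isIso_residueFieldMap_of_isClosedImmersion iS s
  have hSp : IsIso (Spec.map (iS.residueFieldMap s)) :=
    (isIso_SpecMap_iff (f := iS.residueFieldMap s)).mpr (ConcreteCategory.bijective_of_isIso _)
  let ρ : g'.fiber (iS s) ⟶ Y := hcY.lift (g'.fiberι (iS s))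
    (g'.fiberToSpecResidueField (iS s) ≫ inv (Spec.map (iS.residueFieldMap s)) ≫ S.fromSpecResidueField s)
    (by
      rw [Category.assoc, Category.assoc, ← Scheme.Hom.SpecMap_residueFieldMap_fromSpecResidueField,
        IsIso.inv_hom_id_assoc]
      exact g'.fiber_fac (iS s))
  have hρ : ρ ≫ iY = g'.fiberι (iS s) := hcY.lift_fst _ _ _
  have hsq := isPullback_left_square hcX hcY w
  have hF := isPullback_fiberMap f' g' (iS s)
  let ρX : (f' ≫ g').fiber (iS s) ⟶ X := hsq.lift ((f' ≫ g').fiberι (iS s)) (MoreMor.fiberMap f' g' (iS s) ≫ ρ)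
    (by rw [Category.assoc, hρ]; exact hF.w)
  have hbc : IsPullback ρX (MoreMor.fiberMap f' g' (iS s)) f ρ := by
    refine IsPullback.of_right ?_ (hsq.lift_snd _ _ _) hsq
    rw [IsPullback.lift_fst, hρ]
    exact hF
  exact MorphismProperty.of_isPullback hbc ‹Flat f›

/-- Flatness deforms along an arbitrary thickening in the finitely presented situation. -/
theorem flat_of_thickening [IsClosedImmersion iS] [Surjective iS] (hcX : IsPullback iX (f ≫ g) (f' ≫ g') iS)
    (hcY : IsPullback iY g g' iS) (w : iX ≫ f' = f ≫ iY) [Flat (f' ≫ g')]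
    [LocallyOfFinitePresentation (f' ≫ g')] [LocallyOfFiniteType g'] [Flat f] : Flat f' := by
  refine Flat.of_stalkMap _ fun x => ?_
  obtain ⟨s, hs⟩ := iS.surjective (g' (f' x))
  have hfl : Flat (MoreMor.fiberMap f' g' (g' (f' x))) := hs ▸ flat_fiberMap_of_thickening hcX hcY w s
  exact (flat_of_flat_fiberMap f' g' x (Flat.stalkMap (f' ≫ g') x) (Flat.stalkMap _ _)).2

theorem flat_iff_of_thickening (hS : MoreMor.IsThickening iS) (hcX : IsPullback iX (f ≫ g) (f' ≫ g') iS)
    (hcY : IsPullback iY g g' iS) (w : iX ≫ f' = f ≫ iY) [Flat (f' ≫ g')]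
    [LocallyOfFinitePresentation (f' ≫ g')] [LocallyOfFiniteType g'] : Flat f ↔ Flat f' := by
  obtain ⟨_, _⟩ := hS
  exact ⟨fun _ => flat_of_thickening hcX hcY w,
    fun h => MorphismProperty.of_isPullback (isPullback_left_square hcX hcY w) h⟩

theorem smooth_iff_of_thickening (hS : MoreMor.IsThickening iS) (hcX : IsPullback iX (f ≫ g) (f' ≫ g') iS)
    (hcY : IsPullback iY g g' iS) (w : iX ≫ f' = f ≫ iY) [Flat (f' ≫ g')]
    [LocallyOfFinitePresentation (f' ≫ g')] [LocallyOfFiniteType g'] : Smooth f ↔ Smooth f' := by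
  obtain ⟨_, _⟩ := hS
  refine ⟨fun _ => ?_, fun h => MorphismProperty.of_isPullback (isPullback_left_square hcX hcY w) h⟩
  have : IsClosedImmersion iY := MorphismProperty.of_isPullback hcY.flip inferInstance
  have := surjective_fst_of_isPullback hcY
  have := flat_of_thickening hcX hcY w
  have := locallyOfFinitePresentation_of_comp f' g'
  exact smooth_of_thickening (isPullback_left_square hcX hcY w)

theorem etale_iff_of_thickening (hS : MoreMor.IsThickening iS) (hcX : IsPullback iX (f ≫ g) (f' ≫ g') iS)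
    (hcY : IsPullback iY g g' iS) (w : iX ≫ f' = f ≫ iY) [Flat (f' ≫ g')]
    [LocallyOfFinitePresentation (f' ≫ g')] [LocallyOfFiniteType g'] : Etale f ↔ Etale f' := by
  obtain ⟨_, _⟩ := hS
  refine ⟨fun _ => ?_, fun h => MorphismProperty.of_isPullback (isPullback_left_square hcX hcY w) h⟩
  have : IsClosedImmersion iY := MorphismProperty.of_isPullback hcY.flip inferInstance
  have := surjective_fst_of_isPullback hcY
  have := flat_of_thickening hcX hcY w
  have := locallyOfFinitePresentation_of_comp f' g'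
  have := formallyUnramified_of_thickening (isPullback_left_square hcX hcY w) (.inl inferInstance)
  exact Etale.of_formallyUnramified_of_flat f'

theorem isOpenImmersion_of_thickening [IsClosedImmersion iS] [Surjective iS]
    (hcX : IsPullback iX (f ≫ g) (f' ≫ g') iS)
    (hcY : IsPullback iY g g' iS) (w : iX ≫ f' = f ≫ iY) [Flat (f' ≫ g')]
    [LocallyOfFinitePresentation (f' ≫ g')] [LocallyOfFiniteType g'] [IsOpenImmersion f] :
    IsOpenImmersion f' := by
  have : IsClosedImmersion iY := MorphismProperty.of_isPullback hcY.flip inferInstance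
  have := surjective_fst_of_isPullback hcY
  have := flat_of_thickening hcX hcY w
  have := locallyOfFinitePresentation_of_comp f' g'
  have := mono_of_thickening_of_locallyOfFiniteType (isPullback_left_square hcX hcY w)
  exact IsOpenImmersion.of_flat_of_mono f'

theorem isOpenImmersion_iff_of_thickening (hS : MoreMor.IsThickening iS)
    (hcX : IsPullback iX (f ≫ g) (f' ≫ g') iS)
    (hcY : IsPullback iY g g' iS) (w : iX ≫ f' = f ≫ iY) [Flat (f' ≫ g')]
    [LocallyOfFinitePresentation (f' ≫ g')] [LocallyOfFiniteType g'] : IsOpenImmersion f ↔ IsOpenImmersion f' := by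
  obtain ⟨_, _⟩ := hS
  exact ⟨fun _ => isOpenImmersion_of_thickening hcX hcY w,
    fun h => MorphismProperty.of_isPullback (P := @IsOpenImmersion) (isPullback_left_square hcX hcY w) h⟩

theorem isIso_iff_of_thickening (hS : MoreMor.IsThickening iS) (hcX : IsPullback iX (f ≫ g) (f' ≫ g') iS)
    (hcY : IsPullback iY g g' iS) (w : iX ≫ f' = f ≫ iY) [Flat (f' ≫ g')]
    [LocallyOfFinitePresentation (f' ≫ g')] [LocallyOfFiniteType g'] : IsIso f ↔ IsIso f' := by
  obtain ⟨_, _⟩ := hS
  refine ⟨fun _ => ?_, fun h => (isPullback_left_square hcX hcY w).isIso_snd_of_isIso⟩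
  have := isOpenImmersion_of_thickening hcX hcY w
  have : Surjective iY := surjective_fst_of_isPullback hcY
  have : Surjective (iX ≫ f') := by rw [w]; infer_instance
  have : Surjective f' := Surjective.of_comp iX f'
  exact (isIso_iff_isOpenImmersion_and_epi_base _).mpr
    ⟨inferInstance, (TopCat.epi_iff_surjective _).mpr f'.surjective⟩

end Groth.Agent.FlatLocus
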