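import Groth.Agent.FlatLocus.Stage
import Groth.Agent.FlatCrit.BaseIdeal
import Mathlib.LinearAlgebra.Basis.VectorSpace
import Mathlib.Algebra.Module.Torsion.Basic

/-!
# The fibrewise criterion of flatness at a noetherian stage
-/

set_option autoImplicit false
set_option backward.isDefEq.respectTransparency false

universe u

open scoped TensorProduct
open LinearMap Function

namespace Groth.Agent.FlatLocus

/-- `N ⊗[S] -` preserves injections between modules killed by `p`. -/
def RelFlat (R : Type u) [CommRing R] (p : Ideal R) (S : Type u) [CommRing S] [Algebra R S] (N : Type u)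
    [AddCommMonoid N] [Module S N] : Prop :=
  ∀ ⦃X Y : Type u⦄ [AddCommGroup X] [Module S X] [AddCommGroup Y] [Module S Y] (f : X →ₗ[S] Y),
    (∀ r ∈ p, ∀ x : X, algebraMap R S r • x = 0) → (∀ r ∈ p, ∀ y : Y, algebraMap R S r • y = 0) →
    Injective f → Injective (f.lTensor N)

/-- Kernels killed by invertible elements do not matter. -/
theorem RelFlat.injective_of_torsion {R : Type u} [CommRing R] {p : Ideal R} {S : Type u} [CommRing S]
    [Algebra R S] {N : Type u} [AddCommMonoid N] [Module S N] (h : RelFlat R p S N)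
    (hN : ∀ c ∉ p, Function.Bijective fun n : N => algebraMap R S c • n)
    {X Y : Type u} [AddCommGroup X] [Module S X] [AddCommGroup Y] [Module S Y] (f : X →ₗ[S] Y)
    (hX : ∀ r ∈ p, ∀ x : X, algebraMap R S r • x = 0) (hY : ∀ r ∈ p, ∀ y : Y, algebraMap R S r • y = 0)
    (hk : ∀ x, f x = 0 → ∃ c ∉ p, algebraMap R S c • x = 0) : Injective (f.lTensor N) := by
  let : AddCommGroup N := Module.addCommMonoidToAddCommGroup S
  let : AddCommGroup ↥(LinearMap.range f) := Submodule.addCommGroup _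
  let : AddCommGroup ↥(LinearMap.ker f) := Submodule.addCommGroup _
  have h1 : Injective ((LinearMap.range f).subtype.lTensor N) := h _
    (fun r hr y => Subtype.ext (hY r hr y)) hY Subtype.val_injective
  have h2 : ∀ z : N ⊗[S] LinearMap.ker f, (LinearMap.ker f).subtype.lTensor N z = 0 := by
    intro z
    induction z with
    | zero => simp
    | add a b ha hb => rw [map_add, ha, hb, add_zero]
    | tmul n k =>
      obtain ⟨c, hc, hck⟩ := hk k.1 k.2
      obtain ⟨n', rfl⟩ := (hN c hc).2 n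
      rw [LinearMap.lTensor_tmul, Submodule.subtype_apply, TensorProduct.smul_tmul, hck, TensorProduct.tmul_zero]
  have hex : Exact (LinearMap.ker f).subtype f.rangeRestrict := by
    rw [LinearMap.exact_iff, LinearMap.ker_rangeRestrict, Submodule.range_subtype]
  rw [show f = (LinearMap.range f).subtype ∘ₗ f.rangeRestrict from rfl, LinearMap.lTensor_comp]
  refine h1.comp ?_
  rw [injective_iff_map_eq_zero]
  intro z hz
  obtain ⟨w, rfl⟩ := (_root_.lTensor_exact N hex f.surjective_rangeRestrict z).1 hz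
  exact h2 w

theorem relFlat_iff_flat_quotient {R : Type u} [CommRing R] (p : Ideal R) (S : Type u) [CommRing S]
    [Algebra R S] (N : Type u) [AddCommGroup N] [Module S N] :
    RelFlat R p S N ↔
      Module.Flat (S ⧸ p.map (algebraMap R S)) ((S ⧸ p.map (algebraMap R S)) ⊗[S] N) := by
  let A := S ⧸ p.map (algebraMap R S)
  let e := fun (V : Type u) [AddCommGroup V] [Module S V] [Module A V] [IsScalarTower S A V] =>
    (TensorProduct.AlgebraTensorModule.cancelBaseChange S A A V N).restrictScalars S ≪≫ₗ TensorProduct.comm S V N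
  have hnat : ∀ {V W : Type u} [AddCommGroup V] [Module S V] [Module A V] [IsScalarTower S A V]
      [AddCommGroup W] [Module S W] [Module A W] [IsScalarTower S A W] (g : V →ₗ[A] W) (y),
      e W (g.rTensor (A ⊗[S] N) y) = (g.restrictScalars S).lTensor N (e V y) := by
    intro V W _ _ _ _ _ _ _ _ g y
    induction y with
    | zero => simp
    | add a b ha hb => simp only [map_add, ha, hb]
    | tmul a b =>
      induction b with
      | zero => simp
      | add b b' hb hb' => simp only [TensorProduct.tmul_add, map_add, hb, hb']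
      | tmul r s => simp [e]
  constructor
  · intro h
    rw [Module.Flat.iff_rTensor_injective']
    intro J
    have hkill : ∀ (V : Type u) [AddCommGroup V] [Module S V] [Module A V] [IsScalarTower S A V],
        ∀ r ∈ p, ∀ x : V, algebraMap R S r • x = 0 := fun V _ _ _ _ r hr x => by
      rw [← algebraMap_smul A (algebraMap R S r) x, Ideal.Quotient.algebraMap_eq,
        Ideal.Quotient.eq_zero_iff_mem.2 (Ideal.mem_map_of_mem _ hr), zero_smul]
    intro y y' hy
    apply (e J).injective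
    apply h (J.subtype.restrictScalars S) (hkill J) (hkill A) Subtype.val_injective
    rw [← hnat, ← hnat, hy]
  · intro h X Y _ _ _ _ f hX hY hf
    have htor : ∀ (V : Type u) [AddCommGroup V] [Module S V], (∀ r ∈ p, ∀ x : V, algebraMap R S r • x = 0) →
        Module.IsTorsionBySet S V (p.map (algebraMap R S)) := fun V _ _ hV x a => by
      obtain ⟨a, ha⟩ := a
      change a • x = 0
      have hle : p.map (algebraMap R S) ≤ LinearMap.ker (LinearMap.toSpanSingleton S V x) :=
        Ideal.map_le_iff_le_comap.2 fun r hr => hV r hr x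
      exact hle ha
    let : Module A X := (htor X hX).module
    let : Module A Y := (htor Y hY).module
    have : IsScalarTower S A X := (htor X hX).isScalarTower
    have : IsScalarTower S A Y := (htor Y hY).isScalarTower
    let g : X →ₗ[A] Y := LinearMap.extendScalarsOfSurjective (S := A) Ideal.Quotient.mk_surjective f
    intro x x' hxx
    obtain ⟨y, rfl⟩ := (e X).surjective x
    obtain ⟨y', rfl⟩ := (e X).surjective x'
    refine congrArg _ (Module.Flat.rTensor_preserves_injective_linearMap g hf ((e Y).injective ?_))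
    rw [hnat, hnat]
    exact hxx

/-- Over a prime, tensoring an injection of modules killed by the prime has torsion kernel. -/
theorem exists_smul_eq_zero_of_prime {R : Type u} [CommRing R] (p : Ideal R) [p.IsPrime] (P : Type u)
    [AddCommGroup P] [Module R P] {W W' : Type u} [AddCommGroup W] [Module R W] [AddCommGroup W'] [Module R W']
    (hW : ∀ r ∈ p, ∀ w : W, r • w = 0) (hW' : ∀ r ∈ p, ∀ w : W', r • w = 0)
    (f : W →ₗ[R] W') (hf : Injective f) (z : P ⊗[R] W) (hz : f.lTensor P z = 0) :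
    ∃ c ∉ p, c • z = 0 := by
  let L := Localization.AtPrime p
  let m := IsLocalRing.maximalIdeal L
  let k := IsLocalRing.ResidueField L
  have htor : ∀ (V : Type u) [AddCommGroup V] [Module R V], (∀ r ∈ p, ∀ x : V, r • x = 0) →
      Module.IsTorsionBySet L (L ⊗[R] V) m := fun V _ _ hV x a => by
    obtain ⟨a, ha⟩ := a
    change a • x = 0
    rw [SetLike.mem_coe, show m = p.map (algebraMap R L) from (Localization.AtPrime.map_eq_maximalIdeal).symm] at ha
    have hle : p.map (algebraMap R L) ≤ LinearMap.ker (LinearMap.toSpanSingleton L _ x) := by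
      refine Ideal.map_le_iff_le_comap.2 fun r hr => ?_
      change algebraMap R L r • x = 0
      rw [algebraMap_smul]
      clear ha
      induction x with
      | zero => simp
      | add x y hx hy => rw [smul_add, hx, hy, add_zero]
      | tmul l v => rw [TensorProduct.smul_tmul', TensorProduct.smul_tmul, hV r hr, TensorProduct.tmul_zero]
    exact hle ha
  let : Module k (L ⊗[R] W) := (htor W hW).module
  let : Module k (L ⊗[R] W') := (htor W' hW').module
  have : IsScalarTower L k (L ⊗[R] W) := (htor W hW).isScalarTower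
  have : IsScalarTower L k (L ⊗[R] W') := (htor W' hW').isScalarTower
  let fL : L ⊗[R] W →ₗ[L] L ⊗[R] W' := TensorProduct.AlgebraTensorModule.lTensor L L f
  have hfL : Injective fL := Module.Flat.lTensor_preserves_injective_linearMap f hf
  let fk : L ⊗[R] W →ₗ[k] L ⊗[R] W' :=
    LinearMap.extendScalarsOfSurjective (S := k) Ideal.Quotient.mk_surjective fL
  obtain ⟨g, hg⟩ := LinearMap.exists_leftInverse_of_injective fk (LinearMap.ker_eq_bot.2 hfL)
  let gR : L ⊗[R] W' →ₗ[R] L ⊗[R] W := (g.restrictScalars L).restrictScalars R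
  have h1 : gR ∘ₗ f.lTensor L = LinearMap.id := LinearMap.ext fun x => LinearMap.congr_fun hg x
  let η := TensorProduct.mk R L (P ⊗[R] W) 1
  let lc := TensorProduct.leftComm R P L W
  let lc' := TensorProduct.leftComm R P L W'
  have hnat : ∀ z : P ⊗[R] W, lc' ((f.lTensor L).lTensor P (lc.symm (η z))) =
      TensorProduct.mk R L (P ⊗[R] W') 1 (f.lTensor P z) := by
    intro z
    induction z with
    | zero => simp
    | add a b ha hb => simp only [map_add, ha, hb]
    | tmul a b => simp [lc, lc', η]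
  have h0 : η z = 0 := by
    apply lc.symm.injective
    rw [map_zero]
    have h2 : (f.lTensor L).lTensor P (lc.symm (η z)) = 0 := lc'.injective (by rw [hnat, hz, map_zero, map_zero])
    have h3 := congrArg (gR.lTensor P) h2
    rwa [← lTensor_comp_apply, h1, lTensor_id, LinearMap.id_apply, map_zero] at h3
  obtain ⟨c, hc⟩ := (IsLocalizedModule.eq_zero_iff p.primeCompl η).1 h0
  exact ⟨c, c.2, hc⟩

/-- Base change of an injection of modules killed by a prime has torsion kernel. -/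
theorem exists_smul_eq_zero_baseChange {R₀ Q S₀ Sb : Type u} [CommRing R₀] [CommRing Q] [CommRing S₀]
    [CommRing Sb] [Algebra R₀ Q] [Algebra R₀ S₀] [Algebra R₀ Sb] [Algebra Q Sb] [Algebra S₀ Sb]
    [IsScalarTower R₀ Q Sb] [IsScalarTower R₀ S₀ Sb] [Algebra.IsPushout R₀ Q S₀ Sb] (p₀ : Ideal R₀) [p₀.IsPrime]
    {X Y : Type u} [AddCommGroup X] [Module S₀ X] [AddCommGroup Y] [Module S₀ Y] (f : X →ₗ[S₀] Y)
    (hX : ∀ r ∈ p₀, ∀ x : X, algebraMap R₀ S₀ r • x = 0) (hY : ∀ r ∈ p₀, ∀ y : Y, algebraMap R₀ S₀ r • y = 0)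
    (hf : Injective f) (w : Sb ⊗[S₀] X) (hw : f.lTensor Sb w = 0) :
    ∃ c ∉ p₀, algebraMap R₀ Sb c • w = 0 := by
  let : Module R₀ X := Module.compHom X (algebraMap R₀ S₀)
  have : IsScalarTower R₀ S₀ X := IsScalarTower.of_compHom R₀ S₀ X
  let : Module R₀ Y := Module.compHom Y (algebraMap R₀ S₀)
  have : IsScalarTower R₀ S₀ Y := IsScalarTower.of_compHom R₀ S₀ Y
  let eV := fun (V : Type u) [AddCommGroup V] [Module S₀ V] [Module R₀ V] [IsScalarTower R₀ S₀ V] =>
    Algebra.IsPushout.cancelBaseChange R₀ Q S₀ Sb V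
  have hnat : ∀ w : Sb ⊗[S₀] X, (f.restrictScalars R₀).lTensor Q (eV X w) = eV Y (f.lTensor Sb w) := by
    intro w
    obtain ⟨v, rfl⟩ := (eV X).symm.surjective w
    rw [LinearEquiv.apply_symm_apply]
    induction v with
    | zero => simp
    | add a b ha hb => simp only [map_add, ha, hb]
    | tmul a b =>
      apply (eV Y).symm.injective
      simp [eV, Algebra.IsPushout.cancelBaseChange_symm_tmul]
  obtain ⟨c, hc, hc'⟩ := exists_smul_eq_zero_of_prime p₀ Q
    (fun r hr x => (algebraMap_smul S₀ r x).symm.trans (hX r hr x))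
    (fun r hr x => (algebraMap_smul S₀ r x).symm.trans (hY r hr x)) (f.restrictScalars R₀) hf (eV X w)
    (by rw [hnat, hw, map_zero])
  refine ⟨c, hc, (eV X).injective ?_⟩
  rw [map_zero, IsScalarTower.algebraMap_apply R₀ Q Sb, algebraMap_smul, map_smul, algebraMap_smul]
  exact hc'

/-- From a relation `∑ r_j c_j • z = 0` after `M₀ ⊗ (Sb ⊗ X)` to one in `Cb ⊗ (M₀ ⊗ X)`. -/
theorem tmul_eq_zero_of_sum {S₀ S C₀ Sb Cb : Type u} [CommRing S₀] [CommRing S] [CommRing C₀] [CommRing Sb]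
    [CommRing Cb] [Algebra S₀ S] [Algebra S₀ Sb] [Algebra S Sb] [IsScalarTower S₀ S Sb] [Algebra S₀ C₀]
    [Algebra S₀ Cb] [Algebra C₀ Cb] [IsScalarTower S₀ C₀ Cb] (φ : Sb →ₐ[S₀] Cb)
    {M₀ X : Type u} [AddCommGroup M₀] [Module C₀ M₀] [Module S₀ M₀] [IsScalarTower S₀ C₀ M₀]
    [AddCommGroup X] [Module S₀ X] {J : Type u} (T : Finset J) (s : J → S) (c : J → C₀) (z : M₀ ⊗[S₀] X)
    (h : ∑ j ∈ T, ((LinearMap.lsmul S (Sb ⊗[S₀] X) (s j)).restrictScalars S₀).lTensor M₀
      (c j • (TensorProduct.mk S₀ Sb X 1).lTensor M₀ z) = 0) :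
    (∑ j ∈ T, φ (algebraMap S Sb (s j)) * algebraMap C₀ Cb (c j)) ⊗ₜ[C₀] z = 0 := by
  let θ : M₀ ⊗[S₀] (Sb ⊗[S₀] X) →ₗ[S₀] Cb ⊗[C₀] (M₀ ⊗[S₀] X) :=
    TensorProduct.mapOfCompatibleSMul C₀ S₀ S₀ Cb (M₀ ⊗[S₀] X) ∘ₗ
      φ.toLinearMap.rTensor (M₀ ⊗[S₀] X) ∘ₗ (TensorProduct.leftComm S₀ M₀ Sb X).toLinearMap
  have hθ : ∀ (s : S) (c : C₀) (z : M₀ ⊗[S₀] X),
      θ (((LinearMap.lsmul S (Sb ⊗[S₀] X) s).restrictScalars S₀).lTensor M₀
        (c • (TensorProduct.mk S₀ Sb X 1).lTensor M₀ z)) = (φ (algebraMap S Sb s) * algebraMap C₀ Cb c) ⊗ₜ[C₀] z := by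
    intro s c z
    induction z using TensorProduct.induction_on with
    | zero => simp
    | add a b ha hb => rw [map_add, smul_add, map_add, map_add, ha, hb, TensorProduct.tmul_add]
    | tmul m x =>
      rw [LinearMap.lTensor_tmul, TensorProduct.smul_tmul', LinearMap.lTensor_tmul]
      simp only [θ, LinearMap.comp_apply, LinearEquiv.coe_coe, LinearMap.coe_restrictScalars,
        LinearMap.lsmul_apply, TensorProduct.mk_apply]
      rw [show s • ((1 : Sb) ⊗ₜ[S₀] x) = (s • (1 : Sb)) ⊗ₜ[S₀] x from rfl]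
      simp only [TensorProduct.leftComm_tmul, LinearMap.rTensor_tmul, TensorProduct.mapOfCompatibleSMul_tmul,
        AlgHom.toLinearMap_apply]
      rw [← TensorProduct.smul_tmul', TensorProduct.tmul_smul, TensorProduct.smul_tmul',
        Algebra.smul_def c, Algebra.smul_def s, mul_one, mul_comm]
  rw [TensorProduct.sum_tmul, ← map_zero θ, ← h, map_sum]
  exact Finset.sum_congr rfl fun j _ => (hθ _ _ _).symm

/-- If `t ⊗ z = 0` in `Cb ⊗ Z` then some element outside the prime kills `z`. -/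
theorem exists_smul_eq_zero_of_tmul {R₀ Q C₀ Cb D : Type u} [CommRing R₀] [CommRing Q] [CommRing C₀]
    [CommRing Cb] [CommRing D] [Algebra R₀ Q] [Algebra R₀ C₀] [Algebra R₀ Cb] [Algebra Q Cb] [Algebra C₀ Cb]
    [IsScalarTower R₀ Q Cb] [IsScalarTower R₀ C₀ Cb] [Algebra.IsPushout R₀ Q C₀ Cb] [Algebra C₀ D]
    (p₀ : Ideal R₀) [p₀.IsPrime] (q₀ : Ideal C₀) (χ : Cb →ₐ[C₀] D)
    (hq : ∀ a ∈ q₀, algebraMap C₀ D a = 0) {Z : Type u} [AddCommGroup Z] [Module C₀ Z]
    (hZ : ∀ r ∈ p₀, ∀ w : Z, algebraMap R₀ C₀ r • w = 0) (z : Z) (u : Cb) (hu : u ⊗ₜ[C₀] z = (0 : Cb ⊗[C₀] Z))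
    (hne : ∀ c ∉ p₀, χ (algebraMap R₀ Cb c * u) ≠ 0) : ∃ a ∉ q₀, a • z = 0 := by
  by_contra hcon
  push Not at hcon
  let A : Ideal C₀ := LinearMap.ker (LinearMap.toSpanSingleton C₀ Z z)
  have hA : A ≤ q₀ := fun a ha => by_contra fun h => hcon a h ha
  let j : (C₀ ⧸ A) →ₗ[C₀] Z := Submodule.liftQ A (LinearMap.toSpanSingleton C₀ Z z) le_rfl
  have hj : Injective j := LinearMap.ker_eq_bot.1 (Submodule.ker_liftQ_eq_bot A _ le_rfl le_rfl)
  obtain ⟨c, hc, hc'⟩ := exists_smul_eq_zero_baseChange (Q := Q) p₀ j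
    (fun r hr x => hj (by rw [map_smul, map_zero, hZ r hr])) hZ hj
    (u ⊗ₜ[C₀] Submodule.Quotient.mk 1) ((congrArg (u ⊗ₜ[C₀] ·) (one_smul C₀ z)).trans hu)
  let π₀ : (C₀ ⧸ A) →ₗ[C₀] D := Submodule.liftQ A (Algebra.linearMap C₀ D) fun a ha => hq a (hA ha)
  let ev : Cb ⊗[C₀] (C₀ ⧸ A) →ₗ[C₀] D := LinearMap.mul' C₀ D ∘ₗ TensorProduct.map χ.toLinearMap π₀
  have h := congrArg ev hc'
  rw [TensorProduct.smul_tmul', map_zero, smul_eq_mul] at h
  refine hne c hc ?_
  have h1 : π₀ 1 = 1 := map_one (algebraMap C₀ D)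
  simpa [ev, h1] using h

/-- An element killed by the localized base change of `f` is killed outside the prime. -/
theorem exists_smul_bcEquiv_eq_zero {S₀ S C₀ C Sb : Type u} [CommRing S₀] [CommRing S] [CommRing C₀] [CommRing C]
    [CommRing Sb] [Algebra S₀ S] [Algebra S₀ C₀] [Algebra S₀ C] [Algebra S C] [Algebra C₀ C] [Algebra S₀ Sb]
    [Algebra S Sb] [IsScalarTower S₀ S Sb] [IsScalarTower S₀ S C] [IsScalarTower S₀ C₀ C]
    [Algebra.IsPushout S₀ S C₀ C] {M₀ : Type u} [AddCommGroup M₀] [Module C₀ M₀] [Module S₀ M₀]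
    [IsScalarTower S₀ C₀ M₀] {X Y : Type u} [AddCommGroup X] [Module S₀ X] [AddCommGroup Y] [Module S₀ Y]
    (q : Ideal C) [q.IsPrime] (f : X →ₗ[S₀] Y)
    (hinj : Injective ((TensorProduct.AlgebraTensorModule.lTensor S Sb f).lTensor (Loc C₀ M₀ q)))
    (z : M₀ ⊗[S₀] X) (hz : f.lTensor M₀ z = 0) :
    ∃ t ∉ q, t • (bcEquiv S₀ C₀ M₀ S C (Sb ⊗[S₀] X)).symm ((TensorProduct.mk S₀ Sb X 1).lTensor M₀ z) = 0 := by
  let fW : Sb ⊗[S₀] X →ₗ[S] Sb ⊗[S₀] Y := TensorProduct.AlgebraTensorModule.lTensor S Sb f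
  let ι : X →ₗ[S₀] Sb ⊗[S₀] X := TensorProduct.mk S₀ Sb X 1
  let ι' : Y →ₗ[S₀] Sb ⊗[S₀] Y := TensorProduct.mk S₀ Sb Y 1
  have h0 : locMap S₀ C₀ M₀ S q (Sb ⊗[S₀] X) (ι.lTensor M₀ z) = 0 := by
    apply hinj
    refine (locMap_natural (R := S₀) q fW _).trans ?_
    rw [← lTensor_comp_apply,
      show fW.restrictScalars S₀ ∘ₗ ι = ι' ∘ₗ f from rfl, lTensor_comp_apply, hz, map_zero, map_zero]
    exact (map_zero _).symm
  have : IsLocalizedModule q.primeCompl (TensorProduct.AlgebraTensorModule.rTensor S (Sb ⊗[S₀] X)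
      (LocalizedModule.mkLinearMap q.primeCompl (C ⊗[C₀] M₀))) := inferInstance
  obtain ⟨t, ht⟩ := (IsLocalizedModule.eq_zero_iff q.primeCompl
    (TensorProduct.AlgebraTensorModule.rTensor S (Sb ⊗[S₀] X)
      (LocalizedModule.mkLinearMap q.primeCompl (C ⊗[C₀] M₀)))).1 h0
  exact ⟨t, t.2, ht⟩

/-- Expand an element of the pushout acting on a tensor. -/
theorem sum_lsmul_lTensor_eq_zero {R S₀ S C₀ C : Type u} [CommRing R] [CommRing S₀] [CommRing S] [CommRing C₀]
    [CommRing C] [Algebra R S] [Algebra R C] [Algebra S₀ S] [Algebra S₀ C₀] [Algebra S₀ C]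
    [Algebra C₀ C] [Algebra S C] [IsScalarTower R S C] [IsScalarTower S₀ S C] [IsScalarTower S₀ C₀ C]
    [Algebra.IsPushout S₀ S C₀ C] {M₀ : Type u} [AddCommGroup M₀] [Module C₀ M₀] [Module S₀ M₀]
    [IsScalarTower S₀ C₀ M₀] {W : Type u} [AddCommGroup W] [Module S W] [Module S₀ W] [IsScalarTower S₀ S W]
    (T : Finset (R × C₀)) (y : M₀ ⊗[S₀] W)
    (h : (∑ j ∈ T, algebraMap R C j.1 * algebraMap C₀ C j.2) • (bcEquiv S₀ C₀ M₀ S C W).symm y = 0) :
    ∑ j ∈ T, ((LinearMap.lsmul S W (algebraMap R S j.1)).restrictScalars S₀).lTensor M₀ (j.2 • y) = 0 := by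
  apply (bcEquiv S₀ C₀ M₀ S C W).symm.injective
  rw [map_zero, map_sum, ← h, Finset.sum_smul]
  refine Finset.sum_congr rfl fun j _ => ?_
  refine (bcEquiv_symm_natural (R := S₀) (LinearMap.lsmul S W (algebraMap R S j.1)) _).symm.trans ?_
  rw [bcEquiv_symm_smul, mul_smul, IsScalarTower.algebraMap_apply R S C]
  refine Eq.trans ?_ (algebraMap_smul C (algebraMap R S j.1) _).symm
  rw [show LinearMap.lsmul S W (algebraMap R S j.1) = algebraMap R S j.1 • LinearMap.id from rfl,
    LinearMap.lTensor_smul, LinearMap.lTensor_id, LinearMap.smul_apply, LinearMap.id_apply]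

attribute [local instance] Algebra.TensorProduct.rightAlgebra

set_option maxHeartbeats 1000000 in
/-- Fibrewise flatness descends to a stage. -/
theorem relFlat_descend {R₀ R S₀ S C₀ C : Type u} [CommRing R₀] [CommRing R] [CommRing S₀] [CommRing S]
    [CommRing C₀] [CommRing C] [Algebra R₀ R] [Algebra R₀ S₀] [Algebra R₀ C₀]
    [Algebra R₀ S] [Algebra R₀ C] [Algebra R S] [Algebra R C] [Algebra S₀ S] [Algebra S₀ C₀] [Algebra S₀ C]
    [Algebra S C] [Algebra C₀ C] [IsScalarTower R₀ R S] [IsScalarTower R₀ R C] [IsScalarTower R₀ S₀ S]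
    [IsScalarTower R₀ C₀ C] [IsScalarTower R₀ S₀ C₀] [IsScalarTower S₀ C₀ C] [IsScalarTower S₀ S C]
    [IsScalarTower R S C]
    [Algebra.IsPushout R₀ R S₀ S] [Algebra.IsPushout R₀ R C₀ C]
    {M₀ : Type u} [AddCommGroup M₀] [Module C₀ M₀] [Module R₀ M₀] [Module S₀ M₀] [IsScalarTower R₀ C₀ M₀]
    [IsScalarTower S₀ C₀ M₀] [IsScalarTower R₀ S₀ M₀]
    (q : Ideal C) [q.IsPrime] (p : Ideal R) [p.IsPrime] (hp : q.comap (algebraMap R C) = p)
    (q₀ : Ideal C₀) [q₀.IsPrime] (hq₀ : q.comap (algebraMap C₀ C) = q₀)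
    (hfib : RelFlat R p S (Loc C₀ M₀ q)) :
    RelFlat R₀ (p.comap (algebraMap R₀ R)) S₀ (LocalizedModule q₀.primeCompl M₀) := by
  classical
  let p₀ := p.comap (algebraMap R₀ R)
  have : IsScalarTower R₀ S C := IsScalarTower.of_algebraMap_eq fun x => by
    rw [IsScalarTower.algebraMap_apply R₀ R S, ← IsScalarTower.algebraMap_apply R S C,
      ← IsScalarTower.algebraMap_apply R₀ R C]
  have : Algebra.IsPushout R₀ S₀ R S := Algebra.IsPushout.symm inferInstance
  have : Algebra.IsPushout S₀ S C₀ C := Algebra.IsPushout.symm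
    ((Algebra.IsPushout.comp_iff (R := R₀) (S := S₀) (R' := R) (S' := S) (T := C₀) (T' := C)).1
      (Algebra.IsPushout.symm inferInstance))
  let Sb := (R ⧸ p) ⊗[R] S
  let Cb := (R ⧸ p) ⊗[R] C
  let : Algebra S₀ Sb := ((algebraMap S Sb).comp (algebraMap S₀ S)).toAlgebra
  let : Algebra C₀ Cb := ((algebraMap C Cb).comp (algebraMap C₀ C)).toAlgebra
  let : Algebra S₀ Cb := ((algebraMap C Cb).comp (algebraMap S₀ C)).toAlgebra
  have : IsScalarTower S₀ S Sb := IsScalarTower.of_algebraMap_eq fun _ => rfl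
  have : IsScalarTower C₀ C Cb := IsScalarTower.of_algebraMap_eq fun _ => rfl
  have : IsScalarTower S₀ C₀ Cb := IsScalarTower.of_algebraMap_eq fun x =>
    congrArg (algebraMap C Cb) (IsScalarTower.algebraMap_apply S₀ C₀ C x)
  have : IsScalarTower R₀ C₀ Cb := IsScalarTower.of_algebraMap_eq fun x => by
    rw [IsScalarTower.algebraMap_apply R₀ R Cb, IsScalarTower.algebraMap_apply R C Cb,
      ← IsScalarTower.algebraMap_apply R₀ R C, IsScalarTower.algebraMap_apply R₀ C₀ C]
    rfl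
  have : IsScalarTower R₀ S₀ Sb := IsScalarTower.of_algebraMap_eq fun x => by
    rw [IsScalarTower.algebraMap_apply R₀ R Sb, IsScalarTower.algebraMap_apply R S Sb,
      ← IsScalarTower.algebraMap_apply R₀ R S, IsScalarTower.algebraMap_apply R₀ S₀ S]
    rfl
  have : IsScalarTower R₀ S Sb := IsScalarTower.of_algebraMap_eq fun x => by
    rw [IsScalarTower.algebraMap_apply R₀ R Sb, IsScalarTower.algebraMap_apply R S Sb,
      ← IsScalarTower.algebraMap_apply R₀ R S]
  have : IsScalarTower R₀ C Cb := IsScalarTower.of_algebraMap_eq fun x => by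
    rw [IsScalarTower.algebraMap_apply R₀ R Cb, IsScalarTower.algebraMap_apply R C Cb,
      ← IsScalarTower.algebraMap_apply R₀ R C]
  have : Algebra.IsPushout R₀ (R ⧸ p) S₀ Sb :=
    (Algebra.IsPushout.comp_iff (R := R₀) (S := R) (R' := S₀) (S' := S) (T := R ⧸ p) (T' := Sb)).2 inferInstance
  have : Algebra.IsPushout R₀ (R ⧸ p) C₀ Cb :=
    (Algebra.IsPushout.comp_iff (R := R₀) (S := R) (R' := C₀) (S' := C) (T := R ⧸ p) (T' := Cb)).2 inferInstance
  let φ : Sb →ₐ[S₀] Cb :=
    { (Algebra.TensorProduct.map (AlgHom.id R (R ⧸ p)) (IsScalarTower.toAlgHom R S C)).toRingHom with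
      commutes' := fun s => by
        change Algebra.TensorProduct.map (AlgHom.id R (R ⧸ p)) (IsScalarTower.toAlgHom R S C)
          ((1 : R ⧸ p) ⊗ₜ[R] algebraMap S₀ S s) = (1 : R ⧸ p) ⊗ₜ[R] algebraMap S₀ C s
        rw [Algebra.TensorProduct.map_tmul, IsScalarTower.algebraMap_apply S₀ S C]
        rfl }
  have hφ : ∀ s : S, φ (algebraMap S Sb s) = algebraMap C Cb (algebraMap S C s) := fun s => by
    change Algebra.TensorProduct.map (AlgHom.id R (R ⧸ p)) (IsScalarTower.toAlgHom R S C)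
      ((1 : R ⧸ p) ⊗ₜ[R] s) = _
    rw [Algebra.TensorProduct.map_tmul]
    rfl
  let χR : Cb →ₐ[R] C ⧸ q := Algebra.TensorProduct.lift
    (Ideal.Quotient.liftₐ p (Algebra.ofId R (C ⧸ q))
      (fun a ha => Ideal.Quotient.eq_zero_iff_mem.2 (show a ∈ q.comap (algebraMap R C) from hp.symm ▸ ha)))
    (Ideal.Quotient.mkₐ R q) fun _ _ => Commute.all _ _
  have hχ : ∀ x : C, χR (algebraMap C Cb x) = Ideal.Quotient.mk q x := fun x => by
    change χR ((1 : R ⧸ p) ⊗ₜ[R] x) = _
    rw [Algebra.TensorProduct.lift_tmul, map_one, one_mul]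
    rfl
  let χ : Cb →ₐ[C₀] C ⧸ q :=
    { χR.toRingHom with
      commutes' := fun a => hχ (algebraMap C₀ C a) }
  let N₀ := LocalizedModule q₀.primeCompl M₀
  have hkillRp : ∀ (r : R), r ∈ p → algebraMap R (R ⧸ p) r = 0 := fun r hr => by
    rw [Ideal.Quotient.algebraMap_eq]
    exact Ideal.Quotient.eq_zero_iff_mem.2 hr
  have hunit : ∀ c ∉ p, Function.Bijective fun n : Loc C₀ M₀ q => algebraMap R S c • n := fun c hc => by
    have h := IsLocalizedModule.map_units (LocalizedModule.mkLinearMap q.primeCompl (C ⊗[C₀] M₀))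
      (⟨algebraMap R C c, fun h => hc (hp ▸ h)⟩ : q.primeCompl)
    rw [Module.End.isUnit_iff] at h
    convert h using 1
    ext n
    change algebraMap R S c • n = algebraMap R C c • n
    rw [IsScalarTower.algebraMap_apply R S C]
    exact (algebraMap_smul C (algebraMap R S c) n).symm
  have hWkill : ∀ (V : Type u) [AddCommGroup V] [Module S₀ V], ∀ r ∈ p, ∀ w : Sb ⊗[S₀] V,
      algebraMap R S r • w = 0 := fun V _ _ r hr w => by
    rw [← algebraMap_smul Sb (algebraMap R S r) w, ← IsScalarTower.algebraMap_apply R S Sb,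
      IsScalarTower.algebraMap_apply R (R ⧸ p) Sb, hkillRp r hr, map_zero]
    exact zero_smul Sb w
  -- `N₀` is fibrewise flat over `S₀`
  intro X Y _ _ _ _ f hX hY hf
  let g₀ := LocalizedModule.mkLinearMap q₀.primeCompl M₀
  let gX := TensorProduct.AlgebraTensorModule.rTensor S₀ X g₀
  let gY := TensorProduct.AlgebraTensorModule.rTensor S₀ Y g₀
  have : IsLocalizedModule q₀.primeCompl gX := inferInstance
  have : IsLocalizedModule q₀.primeCompl gY := inferInstance
  have hgf : ∀ z, f.lTensor N₀ (gX z) = gY (f.lTensor M₀ z) := by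
    intro z
    induction z with
    | zero => simp
    | add a b ha hb => simp only [map_add, ha, hb]
    | tmul a b => simp [gX, gY, g₀]
  suffices main : ∀ z : M₀ ⊗[S₀] X, f.lTensor M₀ z = 0 → ∃ t ∉ q₀, t • z = 0 by
    rw [injective_iff_map_eq_zero]
    intro x hx
    obtain ⟨⟨z, s⟩, hz⟩ := IsLocalizedModule.surj q₀.primeCompl gX x
    have h0 : gY (f.lTensor M₀ z) = 0 := by
      rw [← hgf, ← hz, Submonoid.smul_def]
      change TensorProduct.AlgebraTensorModule.lTensor C₀ N₀ f ((s : C₀) • x) = 0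
      rw [map_smul]
      change (s : C₀) • f.lTensor N₀ x = 0
      rw [hx, smul_zero]
    obtain ⟨u, hu⟩ := (IsLocalizedModule.eq_zero_iff q₀.primeCompl gY).1 h0
    obtain ⟨t, ht, ht'⟩ := main ((u : C₀) • z) (by
      change TensorProduct.AlgebraTensorModule.lTensor C₀ M₀ f ((u : C₀) • z) = 0
      rw [map_smul]
      exact hu)
    apply IsLocalizedModule.smul_injective gX (⟨t, ht⟩ * u * s)
    dsimp only
    rw [mul_smul, show s • x = gX z from hz, mul_smul, Submonoid.smul_def, Submonoid.smul_def, ← map_smul,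
      ← map_smul, ht', map_zero]
    exact (smul_zero _).symm
  intro z hz
  let fW : Sb ⊗[S₀] X →ₗ[S] Sb ⊗[S₀] Y := TensorProduct.AlgebraTensorModule.lTensor S Sb f
  -- the kernel of `Sb ⊗ f` is torsion
  have hker : ∀ w, fW w = 0 → ∃ c ∉ p, algebraMap R S c • w = 0 := by
    intro w hw
    obtain ⟨c, hc, hc'⟩ := exists_smul_eq_zero_baseChange (Q := R ⧸ p) p₀ f hX hY hf w hw
    refine ⟨algebraMap R₀ R c, hc, ?_⟩
    rw [← IsScalarTower.algebraMap_apply R₀ R S, ← algebraMap_smul Sb (algebraMap R₀ S c) w,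
      ← IsScalarTower.algebraMap_apply R₀ S Sb]
    exact hc'
  have hinj := hfib.injective_of_torsion hunit (X := Sb ⊗[S₀] X) (Y := Sb ⊗[S₀] Y) fW (hWkill X) (hWkill Y) hker
  obtain ⟨t, htq, ht⟩ := exists_smul_bcEquiv_eq_zero q f hinj z hz
  -- write `t` as a combination
  obtain ⟨T, hT⟩ := exists_sum_eq (R := R₀) (B := R) (C₀ := C₀) inferInstance t
  rw [hT] at ht
  have h1 := sum_lsmul_lTensor_eq_zero T _ ht
  have h2 : algebraMap C Cb t ⊗ₜ[C₀] z = (0 : Cb ⊗[C₀] (M₀ ⊗[S₀] X)) := by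
    have h := tmul_eq_zero_of_sum φ T (fun j => algebraMap R S j.1) (fun j => j.2) z h1
    rw [hT, map_sum, ← h]
    congr 1
    refine Finset.sum_congr rfl fun j _ => ?_
    rw [map_mul, hφ, ← IsScalarTower.algebraMap_apply R S C, ← IsScalarTower.algebraMap_apply C₀ C Cb]
  refine exists_smul_eq_zero_of_tmul (Q := R ⧸ p) p₀ q₀ χ (fun a ha => ?_) (fun r hr w => ?_) z _ h2
    fun c hc h => ?_
  · exact Ideal.Quotient.eq_zero_iff_mem.2 (show a ∈ q.comap (algebraMap C₀ C) from hq₀.symm ▸ ha)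
  · induction w using TensorProduct.induction_on with
    | zero => exact smul_zero _
    | add a b ha hb => exact (smul_add _ _ _).trans (by rw [ha, hb, add_zero])
    | tmul a b =>
      rw [IsScalarTower.algebraMap_apply R₀ S₀ C₀, algebraMap_smul, TensorProduct.smul_tmul',
        TensorProduct.smul_tmul, hX r hr, TensorProduct.tmul_zero]
  · rw [IsScalarTower.algebraMap_apply R₀ C Cb, ← map_mul] at h
    rcases ‹q.IsPrime›.mem_or_mem (Ideal.Quotient.eq_zero_iff_mem.1 ((hχ _).symm.trans h)) with h | h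
    · exact hc (show algebraMap R₀ R c ∈ p from hp ▸ by
        rwa [Ideal.mem_comap, ← IsScalarTower.algebraMap_apply])
    · exact htq h

set_option maxHeartbeats 1000000 in
/-- The fibrewise criterion at a noetherian stage. -/
theorem flat_stage_of_fibre {R₀ R S₀ S C₀ C : Type u} [CommRing R₀] [CommRing R] [CommRing S₀] [CommRing S]
    [CommRing C₀] [CommRing C] [IsNoetherianRing R₀] [Algebra R₀ R] [Algebra R₀ S₀] [Algebra R₀ C₀]
    [Algebra R₀ S] [Algebra R₀ C] [Algebra R S] [Algebra R C] [Algebra S₀ S] [Algebra S₀ C₀] [Algebra S₀ C]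
    [Algebra S C] [Algebra C₀ C] [IsScalarTower R₀ R S] [IsScalarTower R₀ R C] [IsScalarTower R₀ S₀ S]
    [IsScalarTower R₀ C₀ C] [IsScalarTower R₀ S₀ C₀] [IsScalarTower S₀ C₀ C] [IsScalarTower S₀ S C]
    [IsScalarTower R S C] [Algebra.FiniteType R₀ S₀] [Algebra.FiniteType R₀ C₀]
    [Algebra.IsPushout R₀ R S₀ S] [Algebra.IsPushout R₀ R C₀ C]
    {M₀ : Type u} [AddCommGroup M₀] [Module C₀ M₀] [Module R₀ M₀] [Module S₀ M₀] [IsScalarTower R₀ C₀ M₀]
    [IsScalarTower S₀ C₀ M₀] [IsScalarTower R₀ S₀ M₀] [Module.Finite C₀ M₀]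
    (q : Ideal C) [q.IsPrime] (p : Ideal R) [p.IsPrime] (hp : q.comap (algebraMap R C) = p)
    (q₀ : Ideal C₀) [q₀.IsPrime] (hq₀ : q.comap (algebraMap C₀ C) = q₀)
    [Module.Flat R₀ (LocalizedModule q₀.primeCompl M₀)] (hfib : RelFlat R p S (Loc C₀ M₀ q)) :
    Module.Flat S₀ (LocalizedModule q₀.primeCompl M₀) := by
  classical
  let p₀ := p.comap (algebraMap R₀ R)
  let N₀ := LocalizedModule q₀.primeCompl M₀
  have : IsNoetherianRing S₀ := Algebra.FiniteType.isNoetherianRing R₀ S₀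
  have : IsNoetherianRing C₀ := Algebra.FiniteType.isNoetherianRing R₀ C₀
  have key : RelFlat R₀ p₀ S₀ N₀ := relFlat_descend q p hp q₀ hq₀ hfib
  -- local criterion along `p₀ S₀`
  have hfl : Module.Flat (S₀ ⧸ p₀.map (algebraMap R₀ S₀)) ((S₀ ⧸ p₀.map (algebraMap R₀ S₀)) ⊗[S₀] N₀) :=
    (relFlat_iff_flat_quotient p₀ S₀ N₀).1 key
  have : Module.Finite (Localization.AtPrime q₀) N₀ :=
    Module.Finite.of_isLocalizedModule q₀.primeCompl (LocalizedModule.mkLinearMap q₀.primeCompl M₀)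
  refine FlatCrit.flat_of_le_jacobson (R := S₀) (S := Localization.AtPrime q₀) (M := N₀)
    (I := p₀.map (algebraMap R₀ S₀)) ?_ (FlatCrit.lTensor_subtype_map_injective_of_flat p₀)
  rw [IsLocalRing.jacobson_eq_maximalIdeal ⊥ bot_ne_top, Ideal.map_map, Ideal.map_le_iff_le_comap]
  intro i hi
  rw [Ideal.mem_comap, ← IsScalarTower.algebraMap_eq R₀ S₀ (Localization.AtPrime q₀),
    IsScalarTower.algebraMap_apply R₀ C₀ (Localization.AtPrime q₀)]
  refine (IsLocalization.AtPrime.to_map_mem_maximal_iff (Localization.AtPrime q₀) q₀ _).2 ?_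
  rw [← hq₀, Ideal.mem_comap, ← IsScalarTower.algebraMap_apply, IsScalarTower.algebraMap_apply R₀ R C]
  exact (show algebraMap R₀ R i ∈ q.comap (algebraMap R C) from hp.symm ▸ hi)

end Groth.Agent.FlatLocus
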