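import Groth.Agent.GenFlat.Limit

/-!
# Kernels of `C ⊗ I R' → C ⊗ R'`

`Groth.Agent.GenFlat.torsion_kernel_map` relative to an additive map killing the kernel of `C ⊗ I → C`.
-/

set_option autoImplicit false
set_option backward.isDefEq.respectTransparency false

universe u

open scoped TensorProduct
open LinearMap Function

namespace Groth.Agent.FlatLocus

open Groth.Agent.GenFlat

variable {R : Type u} [CommRing R] (I : Ideal R) {C : Type u} [AddCommGroup C] [Module R C]
  {R' : Type u} [CommRing R'] [Algebra R R']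

/-- `i ↦ r i` from `I` to `I R'`. -/
noncomputable def mulMap (r : R') : I →ₗ[R] I.map (algebraMap R R') :=
  ((LinearMap.mulLeft R' r).restrict (p := I.map (algebraMap R R')) (q := I.map (algebraMap R R'))
    fun b hb => (I.map (algebraMap R R')).mul_mem_left r hb).restrictScalars R ∘ₗ toMap I R'

theorem mulMap_val (r : R') (i : I) : (mulMap I r i : R') = r * algebraMap R R' i := rfl

variable {I}

/-- The kernel of `C ⊗ I R' → C ⊗ R'` is torsion once the kernel of `C ⊗ I → C` dies in it. -/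
theorem torsion_kernel_map' {c : R} (hM : TFlat (Ideal.Quotient.mk I c) ((R ⧸ I) ⊗[R] C))
    {P : Type u} [AddCommGroup P] (Φ : C ⊗[R] I.map (algebraMap R R') →+ P)
    (hk : ∀ (k : C ⊗[R] I), I.subtype.lTensor C k = 0 → ∀ r : R', Φ ((mulMap I r).lTensor C k) = 0)
    (z : C ⊗[R] I.map (algebraMap R R'))
    (hz : ((I.map (algebraMap R R')).subtype.restrictScalars R).lTensor C z = 0) :
    ∃ n : ℕ, Φ (c ^ n • z) = 0 := by
  let I' := I.map (algebraMap R R')
  let incl : I' →ₗ[R] R' := I'.subtype.restrictScalars R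
  let π : (C →₀ R) →ₗ[R] C := Finsupp.linearCombination R id
  have hπ : Surjective π := Finsupp.linearCombination_id_surjective R C
  let : AddCommGroup ↥(LinearMap.ker π) := Submodule.addCommGroup _
  let ι : LinearMap.ker π →ₗ[R] (C →₀ R) := (LinearMap.ker π).subtype
  have hex : Exact ι π := LinearMap.exact_subtype_ker_map π
  obtain ⟨w, rfl⟩ := LinearMap.rTensor_surjective I' hπ z
  obtain ⟨x, hx⟩ := (rTensor_exact R' hex hπ (incl.lTensor _ w)).1 (by
    rw [← LinearMap.comp_apply, rTensor_comp_lTensor, ← lTensor_comp_rTensor, LinearMap.comp_apply]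
    exact hz)
  -- reduction modulo `I`
  let πb : (R ⧸ I) ⊗[R] (C →₀ R) →ₗ[R ⧸ I] (R ⧸ I) ⊗[R] C := π.baseChange (R ⧸ I)
  let : AddCommGroup ↥(LinearMap.ker πb) := Submodule.addCommGroup _
  let v : LinearMap.ker π →ₗ[R] LinearMap.ker πb :=
    LinearMap.codRestrict ((LinearMap.ker πb).restrictScalars R)
      ((TensorProduct.mk R (R ⧸ I) (C →₀ R) 1) ∘ₗ ι) fun l => by
      change πb ((1 : R ⧸ I) ⊗ₜ[R] ι l) = 0
      simp [πb, ι, LinearMap.mem_ker.1 l.2]
  have hv : Surjective v := by
    rintro ⟨t, ht⟩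
    obtain ⟨s, hs⟩ := (_root_.lTensor_exact (R ⧸ I) hex hπ t).1 ht
    have : ∀ s : (R ⧸ I) ⊗[R] LinearMap.ker π, ∃ l, (1 : R ⧸ I) ⊗ₜ[R] l = s := by
      intro s
      induction s with
      | zero => exact ⟨0, by simp⟩
      | add a b ha hb =>
        obtain ⟨p, rfl⟩ := ha
        obtain ⟨q, rfl⟩ := hb
        exact ⟨p + q, TensorProduct.tmul_add _ _ _⟩
      | tmul r l =>
        obtain ⟨r, rfl⟩ := Ideal.Quotient.mk_surjective r
        refine ⟨r • l, ?_⟩
        rw [← TensorProduct.smul_tmul, Algebra.smul_def, mul_one, Ideal.Quotient.algebraMap_eq]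
    obtain ⟨l, rfl⟩ := this s
    exact ⟨l, Subtype.ext hs⟩
  have hI : ∀ w : (C →₀ R) ⊗[R] I',
      (TensorProduct.mk R (R ⧸ I) (C →₀ R) 1).rTensor R' (incl.lTensor _ w) = 0 := by
    intro w
    induction w with
    | zero => simp
    | add a b ha hb => rw [map_add, map_add, ha, hb, add_zero]
    | tmul a b =>
      obtain ⟨b, hb⟩ := b
      simp only [LinearMap.lTensor_tmul, LinearMap.rTensor_tmul, incl, LinearMap.coe_restrictScalars,
        Submodule.subtype_apply, TensorProduct.mk_apply]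
      refine Submodule.span_induction (p := fun b _ => ((1 : R ⧸ I) ⊗ₜ[R] a) ⊗ₜ[R] b = (0 : _ ⊗[R] R'))
        ?_ (TensorProduct.tmul_zero _ _) (fun p q _ _ hp hq => by rw [TensorProduct.tmul_add, hp, hq, add_zero])
        (fun r p _ hp => by
          have := congrArg ((LinearMap.mulLeft R r).lTensor _) hp
          simpa using this) hb
      rintro _ ⟨i, hi, rfl⟩
      rw [Algebra.algebraMap_eq_smul_one, ← TensorProduct.smul_tmul, TensorProduct.smul_tmul',
        Algebra.smul_def, mul_one, Ideal.Quotient.algebraMap_eq, Ideal.Quotient.eq_zero_iff_mem.2 hi,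
        TensorProduct.zero_tmul, TensorProduct.zero_tmul]
  let e := fun (N : Type u) [AddCommGroup N] [Module R N] [Module (R ⧸ I) N] [IsScalarTower R (R ⧸ I) N] =>
    (TensorProduct.AlgebraTensorModule.cancelBaseChange R (R ⧸ I) (R ⧸ I) N R').restrictScalars R
  have hnat : ∀ y, (LinearMap.ker πb).subtype.rTensor ((R ⧸ I) ⊗[R] R') ((e _).symm y) =
      (e _).symm (((LinearMap.ker πb).subtype.restrictScalars R).rTensor R' y) := by
    intro y
    induction y with
    | zero => simp
    | add a b ha hb => simp only [map_add, ha, hb]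
    | tmul a b => simp [e]
  obtain ⟨n, hn⟩ := hM.rTensor_kernel (u := (LinearMap.ker πb).subtype) (v := πb) Subtype.val_injective
    (LinearMap.exact_subtype_ker_map πb) (LinearMap.lTensor_surjective (R ⧸ I) hπ)
    ((e _).symm (v.rTensor R' x)) (by
      rw [hnat, ← rTensor_comp_apply]
      change (e _).symm ((TensorProduct.mk R (R ⧸ I) (C →₀ R) 1 ∘ₗ ι).rTensor R' x) = 0
      rw [rTensor_comp_apply, hx, hI, map_zero])
  have hn' : v.rTensor R' (c ^ n • x) = 0 := by
    rw [← map_pow, ← Ideal.Quotient.algebraMap_eq, algebraMap_smul, ← map_smul,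
      LinearEquiv.map_eq_zero_iff] at hn
    rwa [map_smul]
  let : AddCommGroup ↥(LinearMap.ker v) := Submodule.addCommGroup _
  obtain ⟨x₁, hx₁⟩ := (rTensor_exact R' (LinearMap.exact_subtype_ker_map v) hv (c ^ n • x)).1 hn'
  have key : ∀ x₁ : LinearMap.ker v ⊗[R] R', ∃ t : (C →₀ R) ⊗[R] I',
      incl.lTensor _ t = (ι ∘ₗ (LinearMap.ker v).subtype).rTensor R' x₁ ∧ Φ (π.rTensor I' t) = 0 := by
    intro x₁
    induction x₁ with
    | zero => exact ⟨0, by simp, by simp⟩
    | add a b ha hb =>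
      obtain ⟨p, hp, hp'⟩ := ha
      obtain ⟨q, hq, hq'⟩ := hb
      exact ⟨p + q, by rw [map_add, map_add, hp, hq], by rw [map_add, map_add, hp', hq', add_zero]⟩
    | tmul l r =>
      obtain ⟨⟨l, hl⟩, hlv⟩ := l
      have h0 : ((1 : R ⧸ I) ⊗ₜ[R] l) = 0 := congrArg Subtype.val (LinearMap.mem_ker.1 hlv)
      have h1 : l ∈ I • (⊤ : Submodule R (C →₀ R)) := by
        have := congrArg (TensorProduct.quotTensorEquivQuotSMul (C →₀ R) I) h0
        rw [← map_one (Ideal.Quotient.mk I), TensorProduct.quotTensorEquivQuotSMul_mk_tmul, one_smul, map_zero,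
          Submodule.Quotient.mk_eq_zero] at this
        exact this
      obtain ⟨k, hk'⟩ : ∃ k : (C →₀ R) ⊗[R] I, I.subtype.lTensor _ k = l ⊗ₜ[R] (1 : R) := by
        refine Submodule.smul_induction_on h1 (fun i hi a _ => ⟨a ⊗ₜ ⟨i, hi⟩, ?_⟩) fun a b ⟨p, hp⟩ ⟨q, hq⟩ =>
          ⟨p + q, by rw [map_add, hp, hq, TensorProduct.add_tmul]⟩
        rw [TensorProduct.smul_tmul, LinearMap.lTensor_tmul, smul_eq_mul, mul_one]
        rfl
      let g : I →ₗ[R] I' := mulMap I r
      have hg : incl ∘ₗ g = LinearMap.toSpanSingleton R R' r ∘ₗ I.subtype := LinearMap.ext fun i => by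
        change r * algebraMap R R' i = (i : R) • r
        rw [Algebra.smul_def, mul_comm]
      refine ⟨g.lTensor _ k, ?_, ?_⟩
      · rw [← lTensor_comp_apply, hg, lTensor_comp_apply, hk']
        simp [ι]
      · have hzero : I.subtype.lTensor C (π.rTensor I k) = 0 := by
          rw [← LinearMap.comp_apply, lTensor_comp_rTensor, ← rTensor_comp_lTensor, LinearMap.comp_apply,
            hk', rTensor_tmul, LinearMap.mem_ker.1 hl, TensorProduct.zero_tmul]
        rw [← LinearMap.comp_apply, rTensor_comp_lTensor, ← lTensor_comp_rTensor, LinearMap.comp_apply]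
        exact hk _ hzero r
  obtain ⟨t, ht, ht'⟩ := key x₁
  refine ⟨n, ?_⟩
  have h2 : t = c ^ n • w := by
    apply Module.Flat.lTensor_preserves_injective_linearMap (M := C →₀ R) incl Subtype.val_injective
    rw [ht, rTensor_comp_apply, hx₁, map_smul, hx, map_smul]
  rw [← map_smul, ← h2]
  exact ht'

end Groth.Agent.FlatLocus
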