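import Groth.Agent.FlatLocus.Module
import Groth.Agent.FlatLocus.Kill
import Groth.Agent.GenFlat.TFlat
import Groth.Agent.FlatCrit.Basic
import Mathlib.RingTheory.Ideal.Quotient.Operations
import Mathlib.RingTheory.Finiteness.ModuleFinitePresentation

/-!
# Flatness at the primes over a stratum, and the flat locus over a noetherian base
-/

set_option autoImplicit false
set_option backward.isDefEq.respectTransparency false

universe u

open scoped TensorProduct
open LinearMap Function

namespace Groth.Agent.FlatLocus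

open Groth.Agent.GenFlat

theorem flat_localized_congr {R C M M' : Type u} [CommRing R] [CommRing C] [Algebra R C] [AddCommGroup M]
    [Module C M] [AddCommGroup M'] [Module C M'] [Module R M] [IsScalarTower R C M] [Module R M']
    [IsScalarTower R C M'] (e : M ≃ₗ[C] M') (S : Submonoid C) [Module.Flat R (LocalizedModule S M)] :
    Module.Flat R (LocalizedModule S M') :=
  have : IsLocalizedModule S (LocalizedModule.mkLinearMap S M' ∘ₗ e.toLinearMap) :=
    IsLocalizedModule.of_linearEquiv_right S _ e
  Module.Flat.of_linearEquiv ((IsLocalizedModule.linearEquiv S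
    (LocalizedModule.mkLinearMap S M' ∘ₗ e.toLinearMap) (LocalizedModule.mkLinearMap S M)).restrictScalars R)

variable {R : Type u} [CommRing R] {C₀ : Type u} [CommRing C₀] [Algebra R C₀]
  {M₀ : Type u} [AddCommGroup M₀] [Module C₀ M₀] [Module R M₀] [IsScalarTower R C₀ M₀] [Module.Finite C₀ M₀]
  {R' C' : Type u} [CommRing R'] [CommRing C'] [Algebra R R'] [Algebra R C'] [Algebra C₀ C'] [Algebra R' C']
  [IsScalarTower R R' C'] [IsScalarTower R C₀ C'] [Algebra.IsPushout R R' C₀ C']
  [IsNoetherianRing R'] [IsNoetherianRing C']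

set_option synthInstance.maxHeartbeats 100000 in
/-- Flatness at the primes over a stratum. -/
theorem flat_loc_of_stratum {I : Ideal R} {c : R}
    (hM : TFlat (Ideal.Quotient.mk I c) ((R ⧸ I) ⊗[R] M₀))
    (q : Ideal C') [q.IsPrime] (hI : ∀ i ∈ I, algebraMap R C' i ∈ q) (hc : algebraMap R C' c ∉ q)
    (hk : ∀ k : M₀ ⊗[R] I, I.subtype.lTensor M₀ k = 0 →
      locMap R C₀ M₀ R' q _ ((toMap I R').lTensor M₀ k) = 0) :
    Module.Flat R' (Loc C₀ M₀ q) := by
  let D := Loc C₀ M₀ q
  let I' := I.map (algebraMap R R')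
  let A := R' ⧸ I'
  have hcn : ∀ n : ℕ, algebraMap C₀ C' (algebraMap R C₀ (c ^ n)) ∉ q := fun n h => by
    rw [← IsScalarTower.algebraMap_apply R C₀ C', map_pow] at h
    exact hc (Ideal.IsPrime.mem_of_pow_mem ‹_› n h)
  let : Algebra (R ⧸ I) A := (Ideal.quotientMap I' (algebraMap R R') Ideal.le_comap_map).toAlgebra
  have : IsScalarTower R (R ⧸ I) A := IsScalarTower.of_algebraMap_eq fun r => rfl
  have : Module.Flat A (A ⊗[R'] D) := by
    rw [Module.Flat.iff_rTensor_injective']
    intro J
    have hinj : Injective ((J.subtype.restrictScalars R').lTensor D) :=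
      lTensor_loc_injective (R := R) q _ fun x hx => by
        obtain ⟨n, hn⟩ := hM.quotient_kernel (J.subtype.restrictScalars (R ⧸ I)) Subtype.val_injective x hx
        exact locMap_eq_zero_of_smul q (hcn n) (by rw [algebraMap_smul]; exact hn)
    let e := fun (N : Type u) [AddCommGroup N] [Module R' N] [Module A N] [IsScalarTower R' A N] =>
      (TensorProduct.AlgebraTensorModule.cancelBaseChange R' A A N D).restrictScalars R' ≪≫ₗ
        TensorProduct.comm R' N D
    have hnat : ∀ y, e A (J.subtype.rTensor (A ⊗[R'] D) y) = (J.subtype.restrictScalars R').lTensor D (e J y) := by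
      intro y
      induction y with
      | zero => simp
      | add a b ha hb => simp only [map_add, ha, hb]
      | tmul a b =>
        induction b with
        | zero => simp
        | add b b' hb hb' => simp only [TensorProduct.tmul_add, map_add, hb, hb']
        | tmul r s => simp [e]
    intro y y' hy
    apply (e J).injective
    apply hinj
    rw [← hnat, ← hnat, hy]
  have : Module.Finite (Localization.AtPrime q) D :=
    Module.Finite.of_isLocalizedModule q.primeCompl (LocalizedModule.mkLinearMap q.primeCompl _)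
  refine FlatCrit.flat_of_le_jacobson (R := R') (S := Localization.AtPrime q) (M := D) (I := I') ?_ ?_
  · rw [IsLocalRing.jacobson_eq_maximalIdeal ⊥ bot_ne_top, Ideal.map_le_iff_le_comap, Ideal.map_le_iff_le_comap]
    intro i hi
    rw [Ideal.mem_comap, Ideal.mem_comap, IsScalarTower.algebraMap_apply R' C' (Localization.AtPrime q),
      ← IsScalarTower.algebraMap_apply R R' C']
    exact (IsLocalization.AtPrime.to_map_mem_maximal_iff (Localization.AtPrime q) q _).2 (hI i hi)
  · refine lTensor_loc_injective (R := R) q _ fun z hz => ?_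
    obtain ⟨n, hn⟩ := torsion_kernel_map' hM (locMap R C₀ M₀ R' q _) (fun k hk' r => by
      rw [show mulMap I r = (((LinearMap.mulLeft R' r).restrict (p := I') (q := I')
          fun b hb => I'.mul_mem_left r hb).restrictScalars R) ∘ₗ toMap I R' from rfl, lTensor_comp_apply,
        ← locMap_natural, hk k hk', map_zero]) z hz
    · refine locMap_eq_zero_of_map_smul q (hcn n) ?_
      rw [algebraMap_smul]
      exact hn

omit [IsNoetherianRing R'] [IsNoetherianRing C'] in
/-- Generic flatness of `M₀` modulo a prime, by elements. -/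
theorem exists_tflat_quotient [IsNoetherianRing R] [Algebra.FiniteType R C₀] (p : Ideal R) [p.IsPrime] :
    ∃ c ∉ p, TFlat (Ideal.Quotient.mk p c) ((R ⧸ p) ⊗[R] M₀) := by
  let J := p.map (algebraMap R C₀)
  let N := M₀ ⧸ J • (⊤ : Submodule C₀ M₀)
  have : Algebra.FiniteType (R ⧸ p) (C₀ ⧸ J) := Algebra.FiniteType.of_restrictScalars_finiteType R (R ⧸ p) _
  let : Module (R ⧸ p) N := Module.compHom N (algebraMap (R ⧸ p) (C₀ ⧸ J))
  have : IsScalarTower (R ⧸ p) (C₀ ⧸ J) N := IsScalarTower.of_compHom (R ⧸ p) (C₀ ⧸ J) N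
  have : IsScalarTower R (R ⧸ p) N := IsScalarTower.of_algebraMap_smul fun r x => by
    change (algebraMap (R ⧸ p) (C₀ ⧸ J)) (algebraMap R (R ⧸ p) r) • x = r • x
    rw [← IsScalarTower.algebraMap_apply R (R ⧸ p) (C₀ ⧸ J), algebraMap_smul]
  have : Module.Finite (C₀ ⧸ J) N := Module.Finite.of_restrictScalars_finite C₀ _ _
  obtain ⟨c, hc, hN⟩ := gf_of_finiteType (R := R ⧸ p) (C₀ ⧸ J) N
  obtain ⟨c, rfl⟩ := Ideal.Quotient.mk_surjective c
  refine ⟨c, fun h => hc (Ideal.Quotient.eq_zero_iff_mem.2 h), hN.congr ?_⟩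
  have he : (J • (⊤ : Submodule C₀ M₀)).restrictScalars R = p • (⊤ : Submodule R M₀) :=
    Ideal.smul_restrictScalars p ⊤
  exact LinearEquiv.extendScalarsOfSurjective (S := R ⧸ p) Ideal.Quotient.mk_surjective
    ((Submodule.Quotient.restrictScalarsEquiv R (J • (⊤ : Submodule C₀ M₀))).symm ≪≫ₗ
      Submodule.quotEquivOfEq _ _ he ≪≫ₗ (TensorProduct.quotTensorEquivQuotSMul M₀ p).symm)

omit [IsNoetherianRing R'] [IsNoetherianRing C'] in
/-- Around a point of the flat locus the closure of the point meets it in an open. -/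
theorem exists_basicOpen_flat [IsNoetherianRing R] [Algebra.FiniteType R C₀] (q : Ideal C₀) [q.IsPrime]
    [Module.Flat R (LocalizedModule q.primeCompl M₀)] : ∃ g ∉ q, ∀ (q' : Ideal C₀) [q'.IsPrime],
      q ≤ q' → g ∉ q' → Module.Flat R (LocalizedModule q'.primeCompl M₀) := by
  classical
  have : IsNoetherianRing C₀ := Algebra.FiniteType.isNoetherianRing R C₀
  let p := q.comap (algebraMap R C₀)
  obtain ⟨c, hc, hM⟩ := exists_tflat_quotient (C₀ := C₀) (M₀ := M₀) p
  have : Module.Finite C₀ (M₀ ⊗[R] p) := FlatCrit.finite_tensor p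
  have : IsNoetherian C₀ (M₀ ⊗[R] p) := inferInstance
  let K := LinearMap.ker (TensorProduct.AlgebraTensorModule.lTensor C₀ M₀ p.subtype)
  obtain ⟨T, hT⟩ : K.FG := IsNoetherian.noetherian K
  let g₀ := LocalizedModule.mkLinearMap q.primeCompl M₀
  have key : ∀ k ∈ K, ∃ t ∉ q, t • k = 0 := by
    intro k hk
    have : IsLocalizedModule q.primeCompl (TensorProduct.AlgebraTensorModule.rTensor R p g₀) := inferInstance
    have hnat : ∀ z : M₀ ⊗[R] p, p.subtype.lTensor (LocalizedModule q.primeCompl M₀)
        (TensorProduct.AlgebraTensorModule.rTensor R p g₀ z) =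
        TensorProduct.AlgebraTensorModule.rTensor R R g₀ (p.subtype.lTensor M₀ z) := by
      intro z
      induction z with
      | zero => simp
      | add a b ha hb => simp only [map_add, ha, hb]
      | tmul a b => simp [g₀]
    have h0 : TensorProduct.AlgebraTensorModule.rTensor R p g₀ k = 0 := by
      apply Module.Flat.lTensor_preserves_injective_linearMap (M := LocalizedModule q.primeCompl M₀)
        p.subtype Subtype.val_injective
      rw [hnat, show p.subtype.lTensor M₀ k = 0 from hk, map_zero, map_zero]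
    obtain ⟨t, ht⟩ := (IsLocalizedModule.eq_zero_iff q.primeCompl _).1 h0
    exact ⟨t, t.2, ht⟩
  choose t ht ht' using fun k : {k // k ∈ T} => key k.1 (hT ▸ Submodule.subset_span k.2)
  refine ⟨algebraMap R C₀ c * ∏ k, t k, ?_, fun q' hq' hle hg => ?_⟩
  · exact fun h => (‹q.IsPrime›.mem_or_mem h).elim (fun h => hc h) fun h => by
      obtain ⟨k, _, hk⟩ := (Ideal.IsPrime.prod_mem_iff).1 h
      exact ht k hk
  have hkill : ∀ k ∈ K, (∏ i, t i) • k = 0 := by
    intro k hk
    rw [← hT] at hk
    induction hk using Submodule.span_induction with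
    | mem x hx =>
      obtain ⟨d, hd⟩ := Finset.dvd_prod_of_mem t (Finset.mem_univ ⟨x, hx⟩)
      rw [hd, mul_comm, mul_smul, ht' ⟨x, hx⟩, smul_zero]
    | zero => exact smul_zero _
    | add x y _ _ hx hy => rw [smul_add, hx, hy, add_zero]
    | smul a x _ hx => rw [smul_comm, hx, smul_zero]
  have hc' : algebraMap R C₀ c ∉ q' := fun h => hg (q'.mul_mem_right _ h)
  have ht'' : (∏ k, t k) ∉ q' := fun h => hg (q'.mul_mem_left _ h)
  have h1 : Module.Flat R (Loc C₀ M₀ q') := by
    refine flat_loc_of_stratum hM q' (fun i hi => hle hi) hc' fun k hk => ?_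
    refine locMap_eq_zero_of_smul q' (t := ∏ i, t i) ht'' ?_
    have := hkill k hk
    change (∏ i, t i) • TensorProduct.AlgebraTensorModule.lTensor C₀ M₀ (toMap p R) k = 0
    rw [← map_smul, this, map_zero]
  exact flat_localized_congr (TensorProduct.lid C₀ M₀) q'.primeCompl

end Groth.Agent.FlatLocus
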