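import Groth.Agent.FlatLocus.Stage
import Mathlib.RingTheory.Spectrum.Prime.ConstructibleSet

/-!
# Openness of the flat locus
-/

set_option autoImplicit false
set_option backward.isDefEq.respectTransparency false

universe u

open scoped TensorProduct
open LinearMap Function

namespace Groth.Agent.FlatLocus

attribute [local instance] Algebra.TensorProduct.rightAlgebra

/-- A set stable under generization containing with each point an open piece of its closure is open. -/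
theorem isOpen_of_closure_pieces {X : Type*} [TopologicalSpace X] [TopologicalSpace.NoetherianSpace X]
    [QuasiSober X] {U : Set X} (hU : StableUnderGeneralization U)
    (h : ∀ x ∈ U, ∃ O : Set X, IsOpen O ∧ x ∈ O ∧ ∀ y ∈ O, x ⤳ y → y ∈ U) : IsOpen U := by
  rw [← isClosed_compl_iff, ← closure_subset_iff_isClosed]
  intro x hx
  by_contra hxU
  simp only [Set.mem_compl_iff, not_not] at hxU
  obtain ⟨S, hfin, hc, hirr, hS⟩ :=
    TopologicalSpace.NoetherianSpace.exists_finite_set_isClosed_irreducible (isClosed_closure (s := Uᶜ))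
  obtain ⟨S', hS'sub, hS'max, hS'cov⟩ : ∃ S' ⊆ S, (∀ Z ∈ S', ∀ W ∈ S', Z ⊆ W → Z = W) ∧ ⋃₀ S' = ⋃₀ S := by
    refine ⟨{Z ∈ S | Maximal (· ∈ S) Z}, Set.sep_subset _ _, fun Z hZ W hW hle => hZ.2.eq_of_le hW.1 hle, ?_⟩
    refine le_antisymm (Set.sUnion_mono (Set.sep_subset _ _)) fun y hy => ?_
    obtain ⟨Z, hZ, hyZ⟩ := hy
    obtain ⟨W, hZW, hW⟩ := hfin.exists_le_maximal hZ
    exact ⟨W, ⟨hW.1, hW⟩, hZW hyZ⟩
  rw [← hS'cov] at hS
  obtain ⟨Z, hZ, hxZ⟩ := hS ▸ hx
  obtain ⟨ξ, hξ⟩ := QuasiSober.sober (hirr Z (hS'sub hZ)) (hc Z (hS'sub hZ))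
  have hξU : ξ ∈ U := hU (hξ.specializes hxZ) hxU
  obtain ⟨O, hO, hξO, hOU⟩ := h ξ hξU
  let V := O ∩ (⋃₀ (S' \ {Z}))ᶜ
  have hV : IsOpen V := by
    refine hO.inter (IsClosed.isOpen_compl (self := ?_))
    rw [Set.sUnion_eq_biUnion]
    exact ((hfin.subset hS'sub).subset Set.sdiff_subset).isClosed_biUnion fun W hW => hc W (hS'sub hW.1)
  have hξV : ξ ∈ V := ⟨hξO, fun ⟨W, hW, hξW⟩ => hW.2 ((hS'max Z hZ W hW.1 (by
    rw [← hξ.def]; exact closure_minimal (Set.singleton_subset_iff.2 hξW) (hc W (hS'sub hW.1)))).symm)⟩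
  obtain ⟨z, hzV, hzU⟩ := mem_closure_iff.1
    (show ξ ∈ closure Uᶜ from hS ▸ ⟨Z, hZ, hξ.mem⟩) V hV hξV
  obtain ⟨W, hW, hzW⟩ : z ∈ ⋃₀ S' := hS ▸ subset_closure hzU
  have hWZ : W = Z := by_contra fun hne => hzV.2 ⟨W, ⟨hW, hne⟩, hzW⟩
  exact hzU (hOU z hzV.1 (hξ.specializes (hWZ ▸ hzW)))

variable {R : Type u} [CommRing R] {C₀ : Type u} [CommRing C₀] [Algebra R C₀]
  {M₀ : Type u} [AddCommGroup M₀] [Module C₀ M₀] [Module R M₀] [IsScalarTower R C₀ M₀]

/-- Flatness generizes. -/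
theorem flat_localized_of_le {q' q : Ideal C₀} [q'.IsPrime] [q.IsPrime] (h : q' ≤ q)
    [Module.Flat R (LocalizedModule q.primeCompl M₀)] : Module.Flat R (LocalizedModule q'.primeCompl M₀) :=
  have : Module.Flat R (Loc C₀ M₀ q') := flat_loc_of_flat (R := R) q' q (fun _ hx => h hx)
  flat_localized_congr (TensorProduct.lid C₀ M₀) q'.primeCompl

variable [IsNoetherianRing R] [Algebra.FiniteType R C₀] [Module.Finite C₀ M₀]

/-- Openness of the flat locus over a noetherian base. -/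
theorem isOpen_flatLocus_noetherian :
    IsOpen {q : PrimeSpectrum C₀ | Module.Flat R (LocalizedModule q.asIdeal.primeCompl M₀)} := by
  have : IsNoetherianRing C₀ := Algebra.FiniteType.isNoetherianRing R C₀
  refine isOpen_of_closure_pieces (fun q q' hle hq => ?_) fun q hq => ?_
  · have : Module.Flat R (LocalizedModule q.asIdeal.primeCompl M₀) := hq
    exact flat_localized_of_le ((PrimeSpectrum.le_iff_specializes q' q).2 hle)
  · have : Module.Flat R (LocalizedModule q.asIdeal.primeCompl M₀) := hq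
    obtain ⟨g, hg, hg'⟩ := exists_basicOpen_flat (R := R) (M₀ := M₀) q.asIdeal
    exact ⟨_, (PrimeSpectrum.basicOpen g).2, hg, fun y hy hle =>
      hg' y.asIdeal ((PrimeSpectrum.le_iff_specializes q y).2 hle) hy⟩

variable {B C_B : Type u} [CommRing B] [CommRing C_B] [Algebra R B] [Algebra R C_B] [Algebra C₀ C_B]
  [Algebra B C_B] [IsScalarTower R B C_B] [IsScalarTower R C₀ C_B] [Algebra.IsPushout R B C₀ C_B]

/-- Flatness at a stage gives flatness over `B`. -/
theorem flat_loc_of_stage (S : Subalgebra R B) (q : Ideal C_B) [q.IsPrime] (qS : Ideal (S ⊗[R] C₀)) [qS.IsPrime]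
    (hq : q.comap (stageMap C₀ C_B S).toRingHom ≤ qS) [Module.Flat S (Loc C₀ M₀ qS)] :
    Module.Flat B (Loc C₀ M₀ q) := by
  let : Algebra (S ⊗[R] C₀) C_B := (stageMap C₀ C_B S).toRingHom.toAlgebra
  have : IsScalarTower S (S ⊗[R] C₀) C_B := ⟨fun x y m => by
    change stageMap C₀ C_B S (x • y) * m = (x : B) • (stageMap C₀ C_B S y * m)
    rw [show x • y = algebraMap S (S ⊗[R] C₀) x * y from Algebra.smul_def x y, map_mul, Algebra.smul_def,
      mul_assoc]
    simp [stageMap]⟩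
  have : IsScalarTower C₀ (S ⊗[R] C₀) C_B := IsScalarTower.of_algebraMap_eq fun x => by
    simp [RingHom.algebraMap_toAlgebra, stageMap, Algebra.TensorProduct.right_algebraMap_apply]
  have : IsScalarTower R (S ⊗[R] C₀) C_B := IsScalarTower.of_algebraMap_eq fun x => by
    exact ((stageMap C₀ C_B S).commutes x).symm
  have : Algebra.IsPushout S B (S ⊗[R] C₀) C_B :=
    (Algebra.IsPushout.comp_iff R S C₀ (S ⊗[R] C₀)).1 inferInstance
  have : Module.Flat S (LocalizedModule qS.primeCompl ((S ⊗[R] C₀) ⊗[C₀] M₀)) := ‹_›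
  have : Module.Flat B (Loc (S ⊗[R] C₀) ((S ⊗[R] C₀) ⊗[C₀] M₀) q) := flat_loc_of_flat (R := S) q qS hq
  exact flat_localized_congr
    (TensorProduct.AlgebraTensorModule.cancelBaseChange C₀ (S ⊗[R] C₀) C_B C_B M₀) q.primeCompl

/-- Openness of the flat locus of a base change from a noetherian stage. -/
theorem isOpen_flatLocus_baseChange (hR : Algebra.IsPushout R B C₀ C_B) :
    IsOpen {q : PrimeSpectrum C_B | Module.Flat B (Loc C₀ M₀ q.asIdeal)} := by
  rw [isOpen_iff_forall_mem_open]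
  intro q hq
  have : Module.Flat B (Loc C₀ M₀ q.asIdeal) := hq
  obtain ⟨s, hs⟩ := exists_flat_stage (R := R) (C₀ := C₀) (M₀ := M₀) (B := B) q.asIdeal
  let S : Subalgebra R B := Algebra.adjoin R (s : Set B)
  have hfg : Algebra.FiniteType R S := Algebra.FiniteType.adjoin_of_finite s.finite_toSet
  have : IsNoetherianRing S := Algebra.FiniteType.isNoetherianRing R S
  let qS := PrimeSpectrum.comap (stageMap C₀ C_B S).toRingHom q
  have h1 := hs S Algebra.subset_adjoin hfg qS.asIdeal rfl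
  have hopen := isOpen_flatLocus_noetherian (R := S) (C₀ := S ⊗[R] C₀) (M₀ := (S ⊗[R] C₀) ⊗[C₀] M₀)
  refine ⟨_, fun q' hq' => ?_, hopen.preimage (PrimeSpectrum.continuous_comap (stageMap C₀ C_B S).toRingHom), h1⟩
  have : Module.Flat S (Loc C₀ M₀ (PrimeSpectrum.comap (stageMap C₀ C_B S).toRingHom q').asIdeal) := hq'
  exact @flat_loc_of_stage R _ C₀ _ _ M₀ _ _ _ _ _ _ _ B C_B _ _ _ _ _ _ _ _ _ S q'.asIdeal _ (PrimeSpectrum.comap (stageMap C₀ C_B S).toRingHom q').asIdeal _ le_rfl this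

end Groth.Agent.FlatLocus
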