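import Groth.Agent.FlatLocus.Noetherian
import Groth.Agent.GenFlat.Limit
import Mathlib.RingTheory.FiniteType
import Mathlib.RingTheory.Spectrum.Prime.Topology
import Mathlib.RingTheory.Spectrum.Prime.Noetherian
import Mathlib.Topology.NoetherianSpace

/-!
# Descent of flatness at a point to a noetherian stage, and openness of the flat locus
-/

set_option autoImplicit false
set_option backward.isDefEq.respectTransparency false

universe u

open scoped TensorProduct
open LinearMap Function

namespace Groth.Agent.FlatLocus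

open Groth.Agent.GenFlat

attribute [local instance] Algebra.TensorProduct.rightAlgebra

variable {R : Type u} [CommRing R] {C₀ : Type u} [CommRing C₀] [Algebra R C₀]
  {M₀ : Type u} [AddCommGroup M₀] [Module C₀ M₀] [Module R M₀] [IsScalarTower R C₀ M₀]
  {R' C' : Type u} [CommRing R'] [CommRing C'] [Algebra R R'] [Algebra R C'] [Algebra C₀ C'] [Algebra R' C']
  [IsScalarTower R R' C'] [IsScalarTower R C₀ C'] [Algebra.IsPushout R R' C₀ C']

theorem smul_bcEquiv_symm_toMap (I : Ideal R) (b : R') (c : C₀) (k : M₀ ⊗[R] I) :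
    (algebraMap R' C' b * algebraMap C₀ C' c) • (bcEquiv R C₀ M₀ R' C' _).symm ((toMap I R').lTensor M₀ k) =
      (bcEquiv R C₀ M₀ R' C' _).symm ((mulMap I b).lTensor M₀ (c • k)) := by
  rw [mul_smul, ← bcEquiv_symm_smul,
    show c • (toMap I R').lTensor M₀ k = (toMap I R').lTensor M₀ (c • k) from
      (map_smul (TensorProduct.AlgebraTensorModule.lTensor C₀ M₀ (toMap I R')) c k).symm,
    show mulMap I b = (((LinearMap.mulLeft R' b).restrict (p := I.map (algebraMap R R'))
      (q := I.map (algebraMap R R')) fun x hx => (I.map (algebraMap R R')).mul_mem_left b hx).restrictScalars R)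
        ∘ₗ toMap I R' from rfl, lTensor_comp_apply, ← bcEquiv_symm_natural]
  generalize (bcEquiv R C₀ M₀ R' C' _).symm ((toMap I R').lTensor M₀ (c • k)) = y
  rw [algebraMap_smul]
  induction y with
  | zero => simp
  | add a a' ha ha' => rw [smul_add, map_add, ha, ha']
  | tmul a i =>
    rw [TensorProduct.smul_tmul', TensorProduct.smul_tmul, LinearMap.lTensor_tmul]
    rfl

section Stage

variable {B C_B : Type u} [CommRing B] [CommRing C_B] [Algebra R B] [Algebra R C_B] [Algebra C₀ C_B]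
  [Algebra B C_B] [IsScalarTower R B C_B] [IsScalarTower R C₀ C_B] [Algebra.IsPushout R B C₀ C_B]

variable (C₀ C_B) in
/-- `S ⊗ C₀ → C_B`. -/
noncomputable def stageMap (S : Subalgebra R B) : S ⊗[R] C₀ →ₐ[R] C_B :=
  Algebra.TensorProduct.lift ((IsScalarTower.toAlgHom R B C_B).comp S.val) (IsScalarTower.toAlgHom R C₀ C_B)
    fun _ _ => Commute.all _ _

theorem exists_sum_eq (h : Algebra.IsPushout R B C₀ C_B) (t : C_B) : ∃ T : Finset (B × C₀),
    t = ∑ j ∈ T, algebraMap B C_B j.1 * algebraMap C₀ C_B j.2 := by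
  obtain ⟨x, rfl⟩ : ∃ x, h.out.equiv x = t :=
    ⟨_, LinearEquiv.apply_symm_apply _ t⟩
  obtain ⟨T, rfl⟩ := TensorProduct.exists_finset x
  refine ⟨T, ?_⟩
  rw [map_sum]
  exact Finset.sum_congr rfl fun j _ => by
    rw [IsBaseChange.equiv_tmul, AlgHom.toLinearMap_apply, Algebra.smul_def]
    rfl

variable [IsNoetherianRing R]

/-- A relation in `M₀ ⊗ IB` holds at a finite stage. -/
theorem exists_kill_stage {I : Ideal R} {Y : Type u} [AddCommGroup Y] [Module R Y] [Module.Finite R Y]
    (g : Y →ₗ[R] I.map (algebraMap R B)) (x : M₀ ⊗[R] Y) (hx : g.lTensor M₀ x = 0) :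
    ∃ s : Finset B, ∀ S : Subalgebra R B, ↑s ⊆ (S : Set B) → ∀ g' : Y →ₗ[R] I.map (algebraMap R S),
      (∀ y, ((g' y : S) : B) = g y) → g'.lTensor M₀ x = 0 := by
  classical
  let IB := I.map (algebraMap R B)
  let N := LinearMap.range g
  have hN : N.FG := by
    have := (Module.Finite.fg_top (R := R) (M := Y)).map g
    rwa [Submodule.map_top] at this
  let x' := TensorProduct.comm R M₀ N (g.rangeRestrict.lTensor M₀ x)
  have h2 : N.subtype.rTensor M₀ x' = 0 := by
    rw [show N.subtype.rTensor M₀ x' = TensorProduct.comm R M₀ IB (g.lTensor M₀ x) from ?_, hx, map_zero]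
    rw [show g.lTensor M₀ x = N.subtype.lTensor M₀ (g.rangeRestrict.lTensor M₀ x) from by
      rw [← lTensor_comp_apply]; rfl]
    exact (comm_lTensor N.subtype _).symm
  obtain ⟨P, ⟨gens, hgens⟩, hle, hP⟩ := hN.exists_rTensor_fg_inclusion_eq (x := x') (y := 0) (by rw [h2, map_zero])
  choose s hs using fun p : IB => exists_finset_mem_map I p.2
  refine ⟨gens.biUnion s, fun S hS g' hg' => ?_⟩
  let ψ : I.map (algebraMap R S) →ₗ[R] B :=
    S.val.toLinearMap ∘ₗ (I.map (algebraMap R S)).subtype.restrictScalars R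
  have hψ : Injective ψ := Subtype.val_injective.comp Subtype.val_injective
  have hPS : P.map (IB.subtype.restrictScalars R) ≤ LinearMap.range ψ := by
    rw [← hgens, Submodule.map_span, Submodule.span_le]
    rintro _ ⟨p, hp, rfl⟩
    obtain ⟨y, hy, hyp⟩ := hs p S ((Finset.coe_subset.2 (Finset.subset_biUnion_of_mem s hp)).trans hS)
    exact ⟨⟨y, hy⟩, hyp⟩
  let h : P →ₗ[R] I.map (algebraMap R S) := (LinearEquiv.ofInjective ψ hψ).symm.toLinearMap ∘ₗ
    LinearMap.codRestrict (LinearMap.range ψ) (IB.subtype.restrictScalars R ∘ₗ P.subtype)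
      fun p => hPS ⟨p, p.2, rfl⟩
  have hfac : g' = h ∘ₗ Submodule.inclusion hle ∘ₗ g.rangeRestrict := LinearMap.ext fun i => by
    apply hψ
    simp only [h, LinearMap.comp_apply, LinearEquiv.coe_coe]
    rw [show ∀ a, ψ ((LinearEquiv.ofInjective ψ hψ).symm a) = a.1 from fun a =>
      congrArg Subtype.val ((LinearEquiv.ofInjective ψ hψ).apply_symm_apply a)]
    exact hg' i
  have : (Submodule.inclusion hle).lTensor M₀ (g.rangeRestrict.lTensor M₀ x) = 0 := by
    apply (TensorProduct.comm R M₀ P).injective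
    rw [map_zero, comm_lTensor, hP, map_zero]
  rw [hfac, LinearMap.lTensor_comp M₀ h, LinearMap.comp_apply,
    LinearMap.lTensor_comp M₀ (Submodule.inclusion hle), LinearMap.comp_apply, this, map_zero]

/-- `(i_j) ↦ ∑ b_j i_j`. -/
noncomputable def sumMap (I : Ideal R) {J : Type u} [Fintype J] (b : J → R') :
    (J → I) →ₗ[R] I.map (algebraMap R R') :=
  ∑ j, mulMap I (b j) ∘ₗ LinearMap.proj j

theorem sumMap_lTensor (I : Ideal R) {J : Type u} [Fintype J] [DecidableEq J] (b : J → R') (c : J → C₀)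
    (k : M₀ ⊗[R] I) :
    (sumMap I b).lTensor M₀ (∑ j, (LinearMap.single R (fun _ => I) j).lTensor M₀ (c j • k)) =
      ∑ j, (mulMap I (b j)).lTensor M₀ (c j • k) := by
  rw [map_sum]
  refine Finset.sum_congr rfl fun j _ => ?_
  rw [← lTensor_comp_apply]
  congr 2
  refine LinearMap.ext fun i => ?_
  simp only [sumMap, LinearMap.comp_apply, LinearMap.sum_apply, LinearMap.proj_apply]
  rw [Finset.sum_eq_single j (fun j' _ hj' => by simp [hj']) (by simp)]
  simp

variable [Algebra.FiniteType R C₀] [Module.Finite C₀ M₀]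

/-- One kernel element dies at a finite stage. -/
theorem exists_kill_loc (q : Ideal C_B) [q.IsPrime] [Module.Flat B (Loc C₀ M₀ q)] (I : Ideal R)
    (k : M₀ ⊗[R] I) (hk : I.subtype.lTensor M₀ k = 0) :
    ∃ s : Finset B, ∀ S : Subalgebra R B, ↑s ⊆ (S : Set B) →
      ∀ (qS : Ideal (S ⊗[R] C₀)) [qS.IsPrime], qS ≤ q.comap (stageMap C₀ C_B S).toRingHom →
        locMap R C₀ M₀ S qS _ ((toMap I S).lTensor M₀ k) = 0 := by
  classical
  let IB := I.map (algebraMap R B)
  let y := (bcEquiv R C₀ M₀ B C_B IB).symm ((toMap I B).lTensor M₀ k)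
  let g := LocalizedModule.mkLinearMap q.primeCompl (C_B ⊗[C₀] M₀)
  have : IsLocalizedModule q.primeCompl (TensorProduct.AlgebraTensorModule.rTensor B IB g) := inferInstance
  have h0 : TensorProduct.AlgebraTensorModule.rTensor B IB g y = 0 := by
    apply Module.Flat.lTensor_preserves_injective_linearMap (M := Loc C₀ M₀ q) IB.subtype Subtype.val_injective
    change IB.subtype.lTensor _ (locMap R C₀ M₀ B q IB ((toMap I B).lTensor M₀ k)) = _
    rw [locMap_natural, ← lTensor_comp_apply,
      show IB.subtype.restrictScalars R ∘ₗ toMap I B = Algebra.linearMap R B ∘ₗ I.subtype from rfl,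
      lTensor_comp_apply, hk, map_zero, map_zero]
    exact (map_zero _).symm
  obtain ⟨t, ht⟩ := (IsLocalizedModule.eq_zero_iff q.primeCompl _).1 h0
  obtain ⟨T, hT⟩ := exists_sum_eq (R := R) (B := B) (C₀ := C₀) inferInstance (t : C_B)
  let b : T → B := fun j => j.1.1
  let c : T → C₀ := fun j => j.1.2
  let x : M₀ ⊗[R] (T → I) := ∑ j, (LinearMap.single R (fun _ => I) j).lTensor M₀ (c j • k)
  have hx : (sumMap I b).lTensor M₀ x = 0 := by
    rw [sumMap_lTensor]
    apply (bcEquiv R C₀ M₀ B C_B IB).symm.injective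
    rw [map_zero, map_sum, ← ht, Submonoid.smul_def, hT, ← Finset.sum_coe_sort T, Finset.sum_smul]
    exact Finset.sum_congr rfl fun j _ => (smul_bcEquiv_symm_toMap I _ _ k).symm
  obtain ⟨s, hs⟩ := exists_kill_stage (sumMap I b) x hx
  refine ⟨s ∪ T.image Prod.fst, fun S hS qS _ hqS => ?_⟩
  rw [Finset.coe_union, Set.union_subset_iff] at hS
  let bS : T → S := fun j => ⟨b j, hS.2 (Finset.mem_coe.2 (Finset.mem_image_of_mem _ j.2))⟩
  let tS : S ⊗[R] C₀ := ∑ j : T, algebraMap S (S ⊗[R] C₀) (bS j) * algebraMap C₀ (S ⊗[R] C₀) (c j)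
  have htS : tS ∉ qS := fun h => t.2 <| by
    have h' := hqS h
    rw [Ideal.mem_comap] at h'
    rw [hT, ← Finset.sum_coe_sort T]
    rw [AlgHom.toRingHom_eq_coe, RingHom.coe_coe, map_sum] at h'
    convert h' using 2 with j
    simp [stageMap, b, c, bS, Algebra.TensorProduct.algebraMap_apply, Algebra.TensorProduct.right_algebraMap_apply]
  have h1 : tS • (bcEquiv R C₀ M₀ S (S ⊗[R] C₀) _).symm ((toMap I S).lTensor M₀ k) = 0 := by
    rw [Finset.sum_smul]
    simp_rw [smul_bcEquiv_symm_toMap]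
    rw [← map_sum, ← sumMap_lTensor, hs S hS.1 (sumMap I bS) ?_, map_zero]
    intro i
    simp only [sumMap, LinearMap.sum_apply, LinearMap.comp_apply, LinearMap.proj_apply,
      Submodule.coe_sum, AddSubmonoidClass.coe_finsetSum]
    rfl
  have : IsLocalizedModule qS.primeCompl (TensorProduct.AlgebraTensorModule.rTensor S
      (I.map (algebraMap R S)) (LocalizedModule.mkLinearMap qS.primeCompl ((S ⊗[R] C₀) ⊗[C₀] M₀))) :=
    inferInstance
  exact (IsLocalizedModule.eq_zero_iff qS.primeCompl (TensorProduct.AlgebraTensorModule.rTensor S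
      (I.map (algebraMap R S)) (LocalizedModule.mkLinearMap qS.primeCompl ((S ⊗[R] C₀) ⊗[C₀] M₀)))).2
    ⟨⟨tS, htS⟩, h1⟩

/-- Flatness at a point descends to a finite stage. -/
theorem exists_flat_stage (q : Ideal C_B) [q.IsPrime] [Module.Flat B (Loc C₀ M₀ q)] :
    ∃ s : Finset B, ∀ S : Subalgebra R B, ↑s ⊆ (S : Set B) → Algebra.FiniteType R S →
      ∀ (qS : Ideal (S ⊗[R] C₀)) [qS.IsPrime], qS = q.comap (stageMap C₀ C_B S).toRingHom →
        Module.Flat S (Loc C₀ M₀ qS) := by
  classical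
  let p := q.comap (algebraMap R C_B)
  obtain ⟨c, hc, hM⟩ := exists_tflat_quotient (C₀ := C₀) (M₀ := M₀) p
  have : IsNoetherianRing C₀ := Algebra.FiniteType.isNoetherianRing R C₀
  have : Module.Finite C₀ (M₀ ⊗[R] p) := FlatCrit.finite_tensor p
  have : IsNoetherian C₀ (M₀ ⊗[R] p) := inferInstance
  let K := LinearMap.ker (TensorProduct.AlgebraTensorModule.lTensor C₀ M₀ p.subtype)
  obtain ⟨T, hT⟩ : K.FG := IsNoetherian.noetherian K
  choose s hs using fun k : {k // k ∈ T} => exists_kill_loc (B := B) (C₀ := C₀) (M₀ := M₀) q p k.1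
    (show k.1 ∈ K from hT ▸ Submodule.subset_span k.2)
  refine ⟨T.attach.biUnion s, fun S hS hfg qS _ hqS => ?_⟩
  have : IsNoetherianRing S := Algebra.FiniteType.isNoetherianRing R S
  have : IsNoetherianRing (S ⊗[R] C₀) := Algebra.FiniteType.isNoetherianRing S (S ⊗[R] C₀)
  have hmem : ∀ r, algebraMap R (S ⊗[R] C₀) r ∈ qS ↔ r ∈ p := fun r => by
    rw [hqS, Ideal.mem_comap, Ideal.mem_comap]
    exact iff_of_eq (congrArg (· ∈ q) ((stageMap C₀ C_B S).commutes r))
  refine flat_loc_of_stratum hM qS (fun i hi => (hmem i).2 hi) (fun h => hc ((hmem c).1 h)) fun k hk => ?_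
  have hk' : k ∈ Submodule.span C₀ (T : Set (M₀ ⊗[R] p)) := hT.symm ▸ hk
  induction hk' using Submodule.span_induction with
  | mem x hx =>
    exact hs ⟨x, hx⟩ S ((Finset.coe_subset.2
      (Finset.subset_biUnion_of_mem s (Finset.mem_attach T ⟨x, hx⟩))).trans hS) qS hqS.le
  | zero => simp only [map_zero]
  | add x y hx' hy' hx hy => rw [map_add, map_add, hx (hT.le hx'), hy (hT.le hy'), add_zero]
  | smul a x hx' hx =>
    rw [show (toMap p S).lTensor M₀ (a • x) = a • (toMap p S).lTensor M₀ x from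
      map_smul (TensorProduct.AlgebraTensorModule.lTensor C₀ M₀ (toMap p S)) a x,
      locMap_smul, hx (hT.le hx'), smul_zero]

end Stage

end Groth.Agent.FlatLocus
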